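import Groth.Agent.Lib.SchImage14.Space
import Groth.Agent.Lib.NeronMap.Dense

/-!
# Points of scheme theoretic images; schematic density
-/

universe u

set_option backward.isDefEq.respectTransparency.types false

open CategoryTheory CategoryTheory.Limits AlgebraicGeometry AlgSp Opposite
open Groth.Agent.AlgSpace Groth.Agent.AlgSpDecent

namespace Groth.Agent.SchImage14

variable {S : Scheme.{u}}

/-- A quasi-compact morphism is dense in its scheme theoretic image. -/
theorem range_subset_closure {F G Z : Sp S} (hF : IsAlgSpace F) (hG : IsAlgSpace G) {f : F ⟶ G}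
    (hq : IsQuasiCompactMor f) {i : Z ⟶ G} (hZ : IsSchImage f i) :
    Set.range (Points.map i) ⊆ closure (Set.range (Points.map f)) := by
  obtain ⟨κ, W, φ, hW, hφe, hφs⟩ := exists_affines_atlas hG
  have sq := hZ.1.1.isPullback φ
  have := isClosedImmersion_snd hZ.1 φ
  rintro _ ⟨z, rfl⟩
  obtain ⟨p, rfl⟩ := surjective_ofPt (repWith_of_isPullback sq.flip hφs) z
  obtain ⟨A, a, c, w, hc, hk⟩ := exists_qc_kerAt_eq hF hG hq hW φ
  rw [Points.map_ofPt, sq.w, ofPt_map_comp]
  have hv : (hZ.1.1.snd φ).left p ∈ closure (Set.range c.left) := by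
    rw [← Scheme.Hom.support_ker, ← hk, ← subIdeal_eq_kerAt_atlas hF hG hq hW hZ hφe hφs, subIdeal]
    exact (hZ.1.1.snd φ).left.range_subset_ker_support ⟨p, rfl⟩
  refine map_mem_closure (Points.continuous_ofPt φ) hv ?_
  rintro _ ⟨t, rfl⟩
  exact ⟨Points.ofPt a t, by rw [Points.map_ofPt, w, ofPt_map_comp]⟩

/-- An open whose inclusion is quasi-compact and schematically dominant is schematically dense. -/
theorem isSchematicallyDense_of_ker_eq_bot {T : Scheme.{u}} (W : T.Opens) [QuasiCompact W.ι]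
    (h : W.ι.ker = ⊥) : CInt.IsSchematicallyDense W := by
  have : IsSchemeTheoreticallyDominant W.ι := ⟨h⟩
  intro V a b hab
  apply W.ι.app_injective V
  have hle : W.ι ''ᵁ (W.ι ⁻¹ᵁ V) ≤ V ⊓ W := by
    rintro _ ⟨y, hy, rfl⟩
    exact ⟨hy, y.2⟩
  rw [Scheme.Opens.ι_app,
    show (homOfLE (show W.ι ''ᵁ (W.ι ⁻¹ᵁ V) ≤ V from hle.trans inf_le_left)).op =
      (homOfLE (inf_le_left : V ⊓ W ≤ V)).op ≫ (homOfLE hle).op from Subsingleton.elim _ _,
    T.presheaf.map_comp]
  exact congrArg (T.presheaf.map (homOfLE hle).op) hab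

section chart

variable {F G : Sp S} {j : G ⟶ F} {V : Over S} {φ : (yon S).obj V ⟶ F} {W : V.left.Opens}
  {fst : (yon S).obj (Over.mk (W.ι ≫ V.hom)) ⟶ G}
  (sq : IsPullback fst ((yon S).map (Over.homMk W.ι rfl : Over.mk (W.ι ≫ V.hom) ⟶ V)) j φ)

include sq in
/-- On a chart the kernel of an open subspace is that of the open. -/
theorem kerAt_eq_ker_ι : kerAt j φ = W.ι.ker := by
  let o : Over.mk (W.ι ≫ V.hom) ⟶ V := Over.homMk W.ι rfl
  have e : o.left = W.ι := rfl
  have h₁ : kerAt j φ ≤ o.left.ker := kerAt_le (f := j) (y := φ) fst o sq.w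
  have hsq : IsPullback fst ((yon S).map o) j φ := sq
  refine le_antisymm (e ▸ h₁) (le_kerAt_iff.2 fun A a c w => ?_)
  obtain ⟨l, hl⟩ := (yon S).map_surjective (hsq.lift a ((yon S).map c) w)
  have h : l ≫ o = c := (yon S).map_injective (by
    rw [Functor.map_comp, hl, IsPullback.lift_snd])
  rw [← h, Over.comp_left, e]
  exact Scheme.Hom.le_ker_comp _ _

include sq in
theorem quasiCompact_ι (hG : IsAlgSpace G) (hF : IsAlgSpace F) (hj : Representable j)
    (hq : IsQuasiCompactMor j) : QuasiCompact W.ι :=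
  ((repWith_quasiCompact_iff hG hF hj).2 hq).2 _ _ _ sq

end chart

lemma subIdeal_id {G : Sp S} (hi : RepWith @IsClosedImmersion (𝟙 G)) {U : Over S}
    (y : (yon S).obj U ⟶ G) : subIdeal hi y = ⊥ := by
  rw [subIdeal_eq_ker hi y (fst := y) (snd := 𝟙 U) (by rw [(yon S).map_id]; exact IsPullback.id_vert y)]
  exact Scheme.Hom.ker_eq_bot_of_isIso _

/-- An open subspace pulls back to an open of a chart. -/
theorem exists_isPullback_open {F G : Sp S} {j : G ⟶ F} (hj : RepWith @IsOpenImmersion j) {V : Over S}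
    (φ : (yon S).obj V ⟶ F) :
    ∃ (W : V.left.Opens) (fst : (yon S).obj (Over.mk (W.ι ≫ V.hom)) ⟶ G),
      IsPullback fst ((yon S).map (Over.homMk W.ι rfl : Over.mk (W.ι ≫ V.hom) ⟶ V)) j φ := by
  have sq := hj.1.isPullback φ
  have : IsOpenImmersion (hj.1.snd φ).left := hj.2 φ _ _ sq
  let W := (hj.1.snd φ).left.opensRange
  let e : Over.mk (W.ι ≫ V.hom) ≅ hj.1.pullback φ :=
    Over.isoMk (hj.1.snd φ).left.isoOpensRange.symm (by
      change (hj.1.snd φ).left.isoOpensRange.inv ≫ (hj.1.pullback φ).hom = W.ι ≫ V.hom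
      rw [← Over.w (hj.1.snd φ), ← Category.assoc, Scheme.Hom.isoOpensRange_inv_comp])
  refine ⟨W, (yon S).map e.hom ≫ hj.1.fst φ, IsPullback.of_iso sq ((yon S).mapIso e.symm) (Iso.refl _)
    (Iso.refl _) (Iso.refl _) ?_ ?_ (by simp) (by simp)⟩
  · simp
  · simp only [Functor.mapIso_hom, Iso.symm_hom, Iso.refl_hom, Category.comp_id]
    rw [← Functor.map_comp]
    exact congrArg (yon S).map (Over.OverMorphism.ext (Scheme.Hom.isoOpensRange_hom_ι _).symm)

/-- For a quasi-compact open subspace, density means that the closure is everything. -/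
theorem isSchDense_iff_isSchImage_id {U X : Space S} (j : U ⟶ X)
    (hj : RepWith @IsOpenImmersion j.hom) (hq : IsQuasiCompactMor j.hom) :
    IsSchDense j.hom ↔ IsSchImage j.hom (𝟙 X.obj) := by
  constructor
  · rintro ⟨-, V, φ, W, fst, hφe, hφs, sq, hd⟩
    have hid : RepWith @IsClosedImmersion (𝟙 X.obj) := by
      refine repWith_closedImmersion_of_etale_cover (P₀ := (yon S).obj V) _ φ hφe hφs (IsPullback.id_vert φ) ?_
      exact repWith_id _ V
    refine isSchImage_of_kerAt_le U.property X.property hid hφe hφs ?_ ?_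
    · rw [subIdeal_id hid]; exact bot_le
    · rw [kerAt_eq_ker_ι sq, NeronMap.ker_ι_eq_bot hd]; exact bot_le
  · intro h
    obtain ⟨κ, W', φ, hW', hφe, hφs⟩ := exists_affines_atlas X.property
    obtain ⟨W, fst, sq⟩ := exists_isPullback_open hj φ
    have := quasiCompact_ι sq U.property X.property hj.1 hq
    refine ⟨hj, _, φ, W, fst, hφe, hφs, sq, isSchematicallyDense_of_ker_eq_bot W ?_⟩
    rw [← kerAt_eq_ker_ι sq, ← subIdeal_eq_kerAt_atlas U.property X.property hq hW' h hφe hφs,
      subIdeal_id]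

end Groth.Agent.SchImage14
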