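import Groth.Agent.Lib.SchImage14.Basic
import Groth.Agent.Lib.GeomRed18.Common
import Mathlib.AlgebraicGeometry.Morphisms.QuasiCompact

/-!
# Kernels and flat covers; disjoint unions of affines
-/

universe u

set_option backward.isDefEq.respectTransparency.types false

open CategoryTheory CategoryTheory.Limits AlgebraicGeometry TopologicalSpace

namespace Groth.Agent.SchImage14

/-- An ideal vanishing on a flat jointly surjective family is zero. -/
theorem eq_bot_of_le_ker_flat_cover {X : Scheme.{u}} {κ : Type*} {D : κ → Scheme.{u}}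
    (e : ∀ k, D k ⟶ X) (he : ∀ k, Flat (e k)) (hs : ∀ x, ∃ k d, e k d = x)
    {J : X.IdealSheafData} (h : ∀ k, J ≤ (e k).ker) : J = ⊥ := by
  refine eq_bot_iff.2 fun U s hs' => ?_
  rw [Scheme.IdealSheafData.ideal_bot, Pi.bot_apply, Ideal.mem_bot]
  refine TopCat.Presheaf.section_ext X.sheaf U.1 _ _ fun x hx => ?_
  obtain ⟨k, d, rfl⟩ := hs x
  have := he k
  apply GeomRed.stalkMap_injective (e k) d
  have h0 : (e k).app U.1 s = 0 := (e k).ideal_ker_le U (h k U hs')
  change (e k).stalkMap d (X.presheaf.germ U.1 _ hx s) = (e k).stalkMap d (X.presheaf.germ U.1 _ hx 0)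
  rw [Scheme.Hom.germ_stalkMap_apply, Scheme.Hom.germ_stalkMap_apply, h0, map_zero, map_zero]
  exact (map_zero _).symm

/-- A kernel can be computed after a flat jointly surjective family of precompositions. -/
theorem le_ker_of_flat_cover {X Y : Scheme.{u}} (c : X ⟶ Y) {κ : Type*} {D : κ → Scheme.{u}}
    (e : ∀ k, D k ⟶ X) (he : ∀ k, Flat (e k)) (hs : ∀ x, ∃ k d, e k d = x)
    {J : Y.IdealSheafData} (h : ∀ k, J ≤ (e k ≫ c).ker) : J ≤ c.ker := by
  rw [← Scheme.IdealSheafData.map_bot, Scheme.IdealSheafData.le_map_iff_comap_le]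
  refine (eq_bot_of_le_ker_flat_cover e he hs fun k => ?_).le
  rw [← Scheme.IdealSheafData.le_map_iff_comap_le, ← Scheme.Hom.ker_comp]
  exact h k

/-- Pulling ideals back along a flat surjection is injective. -/
theorem comap_injective_of_flat_surjective {X Y : Scheme.{u}} (q : X ⟶ Y) [Flat q] [Surjective q]
    {I J : Y.IdealSheafData} (h : I.comap q = J.comap q) : I = J := by
  suffices ∀ K : Y.IdealSheafData, (K.comap q).map q = K by rw [← this I, ← this J, h]
  intro K
  refine le_antisymm ?_ (K.le_map_comap q)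
  rw [Scheme.IdealSheafData.map, ← K.comapIso_hom_fst, Category.assoc, pullback.condition,
    ← Category.assoc]
  refine le_trans ?_ K.ker_subschemeι.le
  exact le_ker_of_flat_cover K.subschemeι
    (fun _ : PUnit.{1} => (K.comapIso q).hom ≫ pullback.snd _ _) (fun _ => inferInstance)
    (fun x => ⟨⟨⟩, ((K.comapIso q).hom ≫ pullback.snd _ _).surjective x⟩) (fun _ => le_rfl)

/-- A disjoint union of maps from quasi-compact schemes to affine schemes is quasi-compact. -/
theorem quasiCompact_sigma_map {κ : Type u} (A W : κ → Scheme.{u}) [∀ j, CompactSpace (A j)]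
    [∀ j, IsAffine (W j)] (c : ∀ j, A j ⟶ W j) : QuasiCompact (Limits.Sigma.map c) := by
  refine (IsZariskiLocalAtTarget.iff_of_iSup_eq_top (P := @QuasiCompact.{u})
    (fun j => (Sigma.ι W j).opensRange) ?_).2 fun j => ?_
  · refine top_le_iff.1 fun x _ => Opens.mem_iSup.2 ?_
    obtain ⟨j, v, hv⟩ := (sigmaOpenCover W).exists_eq x
    exact ⟨j, v, hv⟩
  · have h : (Limits.Sigma.map c ⁻¹ᵁ (Sigma.ι W j).opensRange : Set _) =
        Set.range (Sigma.ι A j) := by
      ext x
      obtain ⟨i, a, rfl⟩ := (sigmaOpenCover A).exists_eq x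
      change (∃ v, Sigma.ι W j v = Limits.Sigma.map c (Sigma.ι A i a)) ↔ ∃ b, Sigma.ι A j b = Sigma.ι A i a
      rw [← Scheme.Hom.comp_apply, Sigma.ι_map, Scheme.Hom.comp_apply]
      constructor
      · rintro ⟨v, hv⟩
        rcases eq_or_ne j i with rfl | hji
        · exact ⟨a, rfl⟩
        · exact absurd hv (fun e => (disjoint_opensRange_sigmaι W _ _ hji).le_bot ⟨⟨v, rfl⟩, ⟨c i a, e.symm⟩⟩)
      · rintro ⟨b, hb⟩
        rcases eq_or_ne j i with rfl | hji
        · exact ⟨_, rfl⟩
        · exact ((disjoint_opensRange_sigmaι A _ _ hji).le_bot ⟨⟨b, hb⟩, ⟨a, rfl⟩⟩).elim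
    have : IsAffine (Sigma.ι W j).opensRange := isAffineOpen_opensRange _
    refine (quasiCompact_iff_compactSpace _).2 (isCompact_iff_compactSpace.1 ?_)
    exact h ▸ isCompact_range (Sigma.ι A j).continuous

end Groth.Agent.SchImage14
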