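import Groth.Agent.Lib.SchImage14.EtaleDense
import Groth.Agent.Lib.SchImage14.Ker
import Groth.Prelude.Def_CInt
import Mathlib.RingTheory.Unramified.LocalStructure
import Mathlib.AlgebraicGeometry.Morphisms.Etale

/-!
# Schematic density goes up and down étale morphisms
-/

universe u

set_option backward.isDefEq.respectTransparency.types false

open CategoryTheory AlgebraicGeometry TopologicalSpace Opposite

namespace Groth.Agent.SchImage14

/-- Functions locally vanishing on a dense family of basic opens vanish on a standard étale algebra. -/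
theorem eq_zero_of_isStandardEtale {A B : Type u} [CommRing A] [CommRing B] [Algebra A B]
    [Algebra.IsStandardEtale A B] {ι : Type*} (f : ι → A)
    (H : ∀ a x : A, (∀ k, ∃ n : ℕ, (a * f k) ^ n * x = 0) → ∃ n : ℕ, a ^ n * x = 0)
    (b : B) (hb : ∀ k, ∃ n : ℕ, f k ^ n • b = 0) : b = 0 := by
  classical
  let P := (Algebra.IsStandardEtale.nonempty_standardEtalePresentation (R := A) (S := B)).some
  let C := AdjoinRoot P.f
  let g : C := AdjoinRoot.mk P.f P.g
  let e : B ≃ₐ[A] Localization.Away g := P.equivRing.trans P.P.equivAwayAdjoinRoot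
  have : Module.Free A C := P.P.monic_f.free_adjoinRoot
  have : Module.Finite A C := P.P.monic_f.finite_adjoinRoot
  obtain ⟨c, s, hcs⟩ := IsLocalization.exists_mk'_eq (Submonoid.powers g) (e b)
  suffices ∃ N, g ^ N * c = 0 by
    obtain ⟨N, hN⟩ := this
    apply e.injective
    rw [map_zero, ← hcs, IsLocalization.mk'_eq_zero_iff]
    exact ⟨⟨_, N, rfl⟩, hN⟩
  have hloc : ∀ k, ∃ m n : ℕ, f k ^ m • ((Algebra.lmul A C g) ^ n) c = 0 := by
    intro k
    obtain ⟨m, hm⟩ := hb k
    have h1 : f k ^ m • e b = 0 := by rw [← map_smul, hm, map_zero]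
    have h2 : algebraMap C (Localization.Away g) (f k ^ m • c) = 0 := by
      rw [Algebra.smul_def, map_mul, ← IsScalarTower.algebraMap_apply A C (Localization.Away g),
        ← IsLocalization.mk'_spec (Localization.Away g) c s, hcs, ← mul_assoc, ← Algebra.smul_def,
        h1, zero_mul]
    obtain ⟨⟨_, n, rfl⟩, hn⟩ := (IsLocalization.map_eq_zero_iff (Submonoid.powers g) _ _).1 h2
    refine ⟨m, n, ?_⟩
    rw [← map_pow, Algebra.coe_lmul_eq_mul, LinearMap.mul_apply', ← mul_smul_comm]
    exact hn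
  let v := Module.Free.chooseBasis A C
  obtain ⟨N, hN⟩ := exists_pow_apply_eq_zero f (fun a x hx => by
      have hi : ∀ i, ∃ n : ℕ, a ^ n * v.repr x i = 0 := fun i => H a _ fun k => by
        obtain ⟨n, hn⟩ := hx k
        exact ⟨n, by simpa using congrArg (fun y => v.repr y i) hn⟩
      choose n hn using hi
      refine ⟨∑ i, n i, v.ext_elem fun i => ?_⟩
      rw [map_smul, Finsupp.smul_apply, map_zero, Finsupp.zero_apply, smul_eq_mul,
        ← Nat.sub_add_cancel (Finset.single_le_sum (fun j _ => Nat.zero_le (n j)) (Finset.mem_univ i)),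
        pow_add, mul_assoc, hn, mul_zero])
    (Algebra.lmul A C g) c (LinearMap.charpoly_monic (Algebra.lmul A C g : Module.End A C))
    (by rw [LinearMap.aeval_self_charpoly, LinearMap.zero_apply]) hloc
  exact ⟨N, by rwa [← map_pow, Algebra.coe_lmul_eq_mul, LinearMap.mul_apply'] at hN⟩

/-- Schematic density descends along flat surjections. -/
theorem dense_of_preimage {R V : Scheme.{u}} (q : R ⟶ V) [Flat q] [Surjective q] {W : V.Opens}
    (h : CInt.IsSchematicallyDense (q ⁻¹ᵁ W)) : CInt.IsSchematicallyDense W := by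
  intro V' a b hab
  have h1 : q.app V' a = q.app V' b := h (q ⁻¹ᵁ V') (by
    have := congrArg (q.app (V' ⊓ W)) hab
    rw [← ConcreteCategory.comp_apply, ← ConcreteCategory.comp_apply, q.naturality] at this
    exact this)
  refine TopCat.Presheaf.section_ext V.sheaf V' _ _ fun x hx => ?_
  obtain ⟨d, rfl⟩ := q.surjective x
  apply GeomRed.stalkMap_injective q d
  change q.stalkMap d (V.presheaf.germ V' _ hx a) = q.stalkMap d (V.presheaf.germ V' _ hx b)
  rw [Scheme.Hom.germ_stalkMap_apply, Scheme.Hom.germ_stalkMap_apply, h1]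

/-- Schematic density in terms of basic opens of an affine open. -/
theorem exists_pow_mul_eq_zero {V : Scheme.{u}} {W : V.Opens} (hW : CInt.IsSchematicallyDense W)
    {U : V.Opens} (hU : IsAffineOpen U) (a x : Γ(V, U))
    (h : ∀ k : {f : Γ(V, U) // V.basicOpen f ≤ W}, ∃ n : ℕ, (a * k.1) ^ n * x = 0) :
    ∃ n : ℕ, a ^ n * x = 0 := by
  have h0 : V.presheaf.map (homOfLE (V.basicOpen_le a)).op x = 0 := by
    apply hW (V.basicOpen a)
    rw [map_zero]
    refine TopCat.Sheaf.eq_of_locally_eq' V.sheaf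
      (fun k : {f : Γ(V, U) // V.basicOpen f ≤ W} => V.basicOpen (a * k.1)) _
      (fun k => homOfLE (by rw [Scheme.basicOpen_mul]; exact inf_le_inf le_rfl k.2)) ?_ _ _ fun k => ?_
    · intro y hy
      obtain ⟨f, hf, hyf⟩ := hU.exists_basicOpen_le (V := W) ⟨y, hy.2⟩ (V.basicOpen_le a hy.1)
      exact Opens.mem_iSup.2 ⟨⟨f, hf⟩, by rw [Scheme.basicOpen_mul]; exact ⟨hy.1, hyf⟩⟩
    · obtain ⟨n, hn⟩ := h k
      refine Eq.trans ?_ (map_zero _).symm
      change V.presheaf.map _ (V.presheaf.map _ (V.presheaf.map _ x)) = 0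
      rw [← ConcreteCategory.comp_apply, ← ConcreteCategory.comp_apply, ← Functor.map_comp,
        ← Functor.map_comp]
      have := hU.isLocalization_basicOpen (a * k.1)
      exact (IsLocalization.map_eq_zero_iff (Submonoid.powers (a * k.1))
        Γ(V, V.basicOpen (a * k.1)) x).2 ⟨⟨_, n, rfl⟩, hn⟩
  have := hU.isLocalization_basicOpen a
  obtain ⟨⟨_, n, rfl⟩, hn⟩ := (IsLocalization.map_eq_zero_iff (Submonoid.powers a)
    Γ(V, V.basicOpen a) x).1 h0
  exact ⟨n, hn⟩

/-- Schematic density goes up along étale morphisms. -/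
theorem dense_preimage_of_etale {R V : Scheme.{u}} (p : R ⟶ V) [Etale p] {W : V.Opens}
    (hW : CInt.IsSchematicallyDense W) : CInt.IsSchematicallyDense (p ⁻¹ᵁ W) := by
  intro R'
  refine (injective_iff_map_eq_zero _).2 fun a ha => ?_
  refine TopCat.Presheaf.section_ext R.sheaf R' _ _ fun x hx => ?_
  obtain ⟨U, hU, hxU, -⟩ := exists_isAffineOpen_mem_and_subset (X := V) (x := p x) (U := ⊤) trivial
  obtain ⟨R₀, hR₀, hxR₀, hle⟩ := exists_isAffineOpen_mem_and_subset (X := R) (x := x)
    (U := R' ⊓ p ⁻¹ᵁ U) ⟨hx, hxU⟩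
  have e : R₀ ≤ p ⁻¹ᵁ U := hle.trans inf_le_right
  have hR₀R' : R₀ ≤ R' := hle.trans inf_le_left
  algebraize [(p.appLE U R₀ e).hom]
  have : Algebra.Etale Γ(V, U) Γ(R, R₀) := p.etale_appLE hU hR₀ e
  let q := (hR₀.primeIdealOf ⟨x, hxR₀⟩).asIdeal
  have : Algebra.FormallyEtale Γ(R, R₀) (Localization.AtPrime q) :=
    .of_isLocalization q.primeCompl
  have : Algebra.IsEtaleAt Γ(V, U) q := Algebra.FormallyEtale.comp Γ(V, U) Γ(R, R₀) _
  obtain ⟨g, hgq, hg⟩ := Algebra.IsEtaleAt.exists_isStandardEtale (R := Γ(V, U)) q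
  have hloc := hR₀.isLocalization_basicOpen g
  let B := Γ(R, R.basicOpen g)
  let _ : Algebra Γ(V, U) B := ((algebraMap Γ(R, R₀) B).comp (algebraMap Γ(V, U) Γ(R, R₀))).toAlgebra
  have : IsScalarTower Γ(V, U) Γ(R, R₀) B := .of_algebraMap_eq' rfl
  have : Algebra.IsStandardEtale Γ(V, U) B :=
    .of_equiv ((IsLocalization.algEquiv (Submonoid.powers g) (Localization.Away g) B).restrictScalars _)
  have hxg : x ∈ R.basicOpen g := by
    suffices hR₀.fromSpec (hR₀.primeIdealOf ⟨x, hxR₀⟩) ∈ R.basicOpen g by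
      rwa [hR₀.fromSpec_primeIdealOf] at this
    show hR₀.primeIdealOf ⟨x, hxR₀⟩ ∈ hR₀.fromSpec ⁻¹ᵁ R.basicOpen g
    rw [hR₀.fromSpec_preimage_basicOpen]
    exact hgq
  have hgR₀ : R.basicOpen g ≤ R₀ := R.basicOpen_le g
  let b : B := R.presheaf.map (homOfLE (hgR₀.trans hR₀R')).op a
  have hb : b = 0 := by
    refine eq_zero_of_isStandardEtale (fun k : {f : Γ(V, U) // V.basicOpen f ≤ W} => k.1)
      (fun a x h => exists_pow_mul_eq_zero hW hU a x h) b fun k => ?_
    have hgaff : IsAffineOpen (R.basicOpen g) := hR₀.basicOpen g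
    let f' : B := algebraMap Γ(V, U) B k.1
    have hle' : R.basicOpen f' ≤ R' ⊓ p ⁻¹ᵁ W := by
      refine le_inf ((R.basicOpen_le f').trans (hgR₀.trans hR₀R')) ?_
      change R.basicOpen (R.presheaf.map (homOfLE hgR₀).op (p.appLE U R₀ e k.1)) ≤ _
      rw [Scheme.basicOpen_res, Scheme.basicOpen_appLE]
      exact inf_le_right.trans (inf_le_right.trans (p.preimage_mono k.2))
    have := hgaff.isLocalization_basicOpen f'
    obtain ⟨⟨_, n, rfl⟩, hn⟩ :=
      (IsLocalization.map_eq_zero_iff (Submonoid.powers f') Γ(R, R.basicOpen f') b).1 (by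
        have := congrArg (R.presheaf.map (homOfLE hle').op) ha
        rw [map_zero, ← ConcreteCategory.comp_apply, ← Functor.map_comp] at this
        change R.presheaf.map _ (R.presheaf.map _ a) = 0
        rw [← ConcreteCategory.comp_apply, ← Functor.map_comp]
        exact this)
    exact ⟨n, by rw [Algebra.smul_def, map_pow]; exact hn⟩
  refine (R.presheaf.germ_res_apply (homOfLE (hgR₀.trans hR₀R')) x hxg a).symm.trans ?_
  exact (congrArg _ hb).trans ((map_zero _).trans (map_zero _).symm)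

end Groth.Agent.SchImage14
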