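import Groth.Agent.Lib.RedSep.Basic
import Groth.Agent.Lib.SchImage14.DenseEtale
import Groth.Agent.Lib.SchImage14.Apps
import Mathlib.AlgebraicGeometry.Morphisms.Immersion

/-!
# Immersions into their scheme theoretic image
-/

universe u

set_option backward.isDefEq.respectTransparency.types false

open CategoryTheory CategoryTheory.Limits AlgebraicGeometry TopologicalSpace

namespace Groth.Agent.SchImage14

theorem isReduced_image {Z X : Scheme.{u}} [IsReduced Z] (h : Z ⟶ X) : IsReduced h.image := by
  change IsReduced h.ker.subscheme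
  rw [RedSepLib.ker_eq_vanishingIdeal]
  exact RedSepLib.isReduced_vanishingIdeal_subscheme _

theorem denseRange_toImage {Z X : Scheme.{u}} (h : Z ⟶ X) (hh : QuasiCompact h ∨ IsReduced Z) :
    DenseRange h.toImage := by
  have hs : (h.ker.support : Set X) = closure (Set.range h) := by
    rcases hh with _ | _
    · exact h.support_ker
    · rw [RedSepLib.ker_eq_vanishingIdeal, Scheme.IdealSheafData.coe_support_vanishingIdeal]
      rfl
  rw [DenseRange, dense_iff_closure_eq, h.imageι.isEmbedding.closure_eq_preimage_closure_image,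
    ← Set.range_comp, ← TopCat.coe_comp, ← Scheme.Hom.comp_base, h.toImage_imageι, ← hs,
    ← Scheme.IdealSheafData.range_subschemeι]
  exact Set.preimage_range _

theorem isOpenImmersion_toImage {Z X : Scheme.{u}} (h : Z ⟶ X) [IsImmersion h]
    (hh : QuasiCompact h ∨ IsReduced Z) : IsOpenImmersion h.toImage := by
  rcases hh with _ | _
  · infer_instance
  let U := h.coborderRange
  let l := h.liftCoborder
  refine MorphismProperty.of_isPullback (P := @IsOpenImmersion)
    (isPullback_of_isClosedImmersion l h.imageι h.toImage U.ι (by simp [l, U]) ?_)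
    (inferInstanceAs (IsOpenImmersion U.ι))
  rw [Scheme.Hom.imageι, Scheme.IdealSheafData.ker_subschemeι]
  refine le_antisymm ?_ ?_
  · rw [← Scheme.IdealSheafData.le_map_iff_comap_le, ← Scheme.Hom.ker_comp, h.liftCoborder_ι]
  · have : IsReduced h.ker.subscheme := isReduced_image h
    have : IsReduced (pullback U.ι h.ker.subschemeι) :=
      isReduced_of_isOpenImmersion (pullback.snd U.ι h.ker.subschemeι)
    obtain ⟨g, hg⟩ := RedSepLib.exists_lift_of_range_subset (pullback.fst U.ι h.ker.subschemeι) l (by
      rw [Scheme.Pullback.range_fst, Scheme.IdealSheafData.range_subschemeι,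
        RedSepLib.ker_eq_vanishingIdeal, Scheme.IdealSheafData.coe_support_vanishingIdeal]
      have hr : Set.range l = U.ι ⁻¹' Set.range h := by
        conv_rhs => rw [← h.liftCoborder_ι]
        rw [Scheme.Hom.comp_base, TopCat.coe_comp, Set.range_comp,
          Set.preimage_image_eq _ U.ι.isEmbedding.injective]
      rw [← l.isClosedEmbedding.isClosed_range.closure_eq, hr,
        ← U.ι.isOpenEmbedding.isOpenMap.preimage_closure_eq_closure_preimage U.ι.continuous]
      rfl)
    rw [Scheme.IdealSheafData.comap, ← hg]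
    exact Scheme.Hom.le_ker_comp _ _

theorem dense_of_dense_isReduced {X : Scheme.{u}} [IsReduced X] (W : X.Opens)
    (hW : Dense (W : Set X)) : CInt.IsSchematicallyDense W := by
  intro V
  refine (injective_iff_map_eq_zero _).2 fun a ha => ?_
  rw [← basicOpen_eq_bot_iff]
  by_contra hne
  obtain ⟨x, hx⟩ := Set.nonempty_iff_ne_empty.2 (fun e => hne (Opens.ext e))
  obtain ⟨y, hy, hyW⟩ := hW.exists_mem_open (X.basicOpen a).isOpen ⟨x, hx⟩
  have h0 := congrArg X.basicOpen ha
  rw [Scheme.basicOpen_res, Scheme.basicOpen_zero] at h0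
  exact (h0.le ⟨⟨X.basicOpen_le a hyW, hy⟩, hyW⟩ : y ∈ (⊥ : X.Opens))

theorem ker_opensRange_ι {Y X : Scheme.{u}} (g : Y ⟶ X) [IsOpenImmersion g] :
    g.opensRange.ι.ker = g.ker := by
  rw [← g.isoOpensRange_inv_comp, Scheme.Hom.ker_comp_of_isIso]

/-- An immersion is a schematically dense open of its scheme theoretic image. -/
theorem dense_opensRange_toImage {Z X : Scheme.{u}} (h : Z ⟶ X) (hh : QuasiCompact h ∨ IsReduced Z)
    [IsOpenImmersion h.toImage] : CInt.IsSchematicallyDense h.toImage.opensRange := by
  rcases hh with hq | hr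
  · have : QuasiCompact h.toImage.opensRange.ι := by
      rw [← h.toImage.isoOpensRange_inv_comp]; infer_instance
    refine isSchematicallyDense_of_ker_eq_bot _ ?_
    rw [ker_opensRange_ι, eq_bot_iff]
    intro U
    refine (h.toImage.ideal_ker_le U).trans ?_
    rw [Scheme.IdealSheafData.ideal_bot, Pi.bot_apply, le_bot_iff, ← RingHom.injective_iff_ker_eq_bot]
    exact fun a b e => by
      refine TopCat.Presheaf.section_ext h.image.sheaf U.1 _ _ fun x hx => ?_
      apply h.stalkFunctor_toImage_injective x
      change ((TopCat.Presheaf.stalkFunctor _ x).map h.toImage.c) (h.image.presheaf.germ U.1 x hx a) =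
        ((TopCat.Presheaf.stalkFunctor _ x).map h.toImage.c) (h.image.presheaf.germ U.1 x hx b)
      rw [TopCat.Presheaf.stalkFunctor_map_germ_apply, TopCat.Presheaf.stalkFunctor_map_germ_apply]
      exact congrArg _ e
  · have := isReduced_image h
    exact dense_of_dense_isReduced _ (denseRange_toImage h (Or.inr hr))

/-- Schematic density gives dominance on every open. -/
theorem isSchemeTheoreticallyDominant_homOfLE {X : Scheme.{u}} {U : X.Opens}
    (hU : CInt.IsSchematicallyDense U) (W : X.Opens) :
    IsSchemeTheoreticallyDominant (X.homOfLE (inf_le_right : U ⊓ W ≤ W)) := by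
  refine ⟨?_⟩
  rw [← ker_opensRange_ι, Scheme.opensRange_homOfLE]
  refine NeronMap.ker_ι_eq_bot ?_
  have e : W.ι ⁻¹ᵁ (U ⊓ W) = W.ι ⁻¹ᵁ U := by
    ext w; exact ⟨fun h => h.1, fun h => ⟨h, w.2⟩⟩
  rw [e]
  exact NeronMap.dense_preimage_ι hU W

end Groth.Agent.SchImage14
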