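import Groth.Agent.Lib.SchImage14.Apps
import Groth.Agent.Lib.SchImage14.DenseEtale

/-!
# Scheme theoretic density on all charts of an algebraic space
-/

universe u

set_option backward.isDefEq.respectTransparency.types false

open CategoryTheory CategoryTheory.Limits AlgebraicGeometry AlgSp Opposite
open Groth.Agent.AlgSpace Groth.Agent.AlgSpDecent

namespace Groth.Agent.SchImage14

variable {S : Scheme.{u}} {F G : Sp S} {j : G ⟶ F}

/-- The open of a chart cut out by an open subspace, on points. -/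
theorem mem_iff_ofPt_mem {V : Over S} {φ : (yon S).obj V ⟶ F} {W : V.left.Opens}
    {fst : (yon S).obj (Over.mk (W.ι ≫ V.hom)) ⟶ G}
    (sq : IsPullback fst ((yon S).map (Over.homMk W.ι rfl : Over.mk (W.ι ≫ V.hom) ⟶ V)) j φ)
    (v : V.left) : v ∈ W ↔ Points.ofPt φ v ∈ Set.range (Points.map j) := by
  let o : Over.mk (W.ι ≫ V.hom) ⟶ V := Over.homMk W.ι rfl
  have sq' : IsPullback fst ((yon S).map o) j φ := sq
  constructor
  · intro hv
    refine ⟨Points.ofPt fst ⟨v, hv⟩, ?_⟩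
    rw [Points.map_ofPt, sq'.w, ofPt_map_comp]
    rfl
  · rintro ⟨g, hg⟩
    obtain ⟨w, -, hw⟩ := exists_pt_of_isPullback sq' hg
    exact hw ▸ w.2

/-- Density holds on every etale chart. -/
theorem isSchematicallyDense_chart (hj : IsSchDense j) {V : Over S} {φ : (yon S).obj V ⟶ F}
    (hφ : RepWith @Etale φ) {W : V.left.Opens}
    {fst : (yon S).obj (Over.mk (W.ι ≫ V.hom)) ⟶ G}
    (sq : IsPullback fst ((yon S).map (Over.homMk W.ι rfl : Over.mk (W.ι ≫ V.hom) ⟶ V)) j φ) :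
    CInt.IsSchematicallyDense W := by
  obtain ⟨-, V₀, φ₀, W₀, fst₀, he₀, hs₀, sq₀, hd⟩ := hj
  have sqR := he₀.1.isPullback φ
  obtain ⟨p, hp⟩ := (yon S).map_surjective (he₀.1.fst φ)
  have : Etale (he₀.1.snd φ).left := he₀.2 φ _ _ sqR
  have : Surjective (he₀.1.snd φ).left := hs₀.2 φ _ _ sqR
  have : Etale p.left := hφ.2 φ₀ _ _ (by rw [hp]; exact sqR.flip)
  refine dense_of_preimage (he₀.1.snd φ).left ?_
  suffices (he₀.1.snd φ).left ⁻¹ᵁ W = p.left ⁻¹ᵁ W₀ from this ▸ dense_preimage_of_etale p.left hd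
  ext r
  show (he₀.1.snd φ).left r ∈ W ↔ p.left r ∈ W₀
  rw [mem_iff_ofPt_mem sq, mem_iff_ofPt_mem sq₀, ← ofPt_map_comp, ← ofPt_map_comp, hp, sqR.w]

theorem dense_inf {X : Scheme.{u}} {W₁ W₂ : X.Opens} (h₁ : CInt.IsSchematicallyDense W₁)
    (h₂ : CInt.IsSchematicallyDense W₂) : CInt.IsSchematicallyDense (W₁ ⊓ W₂) := by
  intro V a b hab
  refine h₁ V (h₂ (V ⊓ W₁) ?_)
  have hle : (V ⊓ W₁) ⊓ W₂ ≤ V ⊓ (W₁ ⊓ W₂) := (inf_assoc _ _ _).le
  simp only [← ConcreteCategory.comp_apply, ← Functor.map_comp]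
  have := congrArg (X.presheaf.map (homOfLE hle).op) hab
  simp only [← ConcreteCategory.comp_apply, ← Functor.map_comp] at this
  exact this

/-- Intersections of scheme theoretically dense open subspaces. -/
theorem isSchDense_inter {G' P : Sp S} {j' : G' ⟶ F} (hj : IsSchDense j) (hj' : IsSchDense j')
    {fst : P ⟶ G} {snd : P ⟶ G'} (sq : IsPullback fst snd j j') : IsSchDense (fst ≫ j) := by
  have hPo : RepWith @IsOpenImmersion (fst ≫ j) :=
    repWith_comp (repWith_of_isPullback sq.flip hj'.1) hj.1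
  obtain ⟨-, V₀, φ, W₁, fst₁, he, hs, sq₁, hd⟩ := id hj
  obtain ⟨W₂, fst₂, sq₂⟩ := exists_isPullback_open hj'.1 φ
  obtain ⟨W, fst₃, sq₃⟩ := exists_isPullback_open hPo φ
  refine ⟨hPo, V₀, φ, W, fst₃, he, hs, sq₃, ?_⟩
  suffices W = W₁ ⊓ W₂ from this ▸ dense_inf hd (isSchematicallyDense_chart hj' he sq₂)
  ext v
  show v ∈ W ↔ v ∈ W₁ ∧ v ∈ W₂
  rw [mem_iff_ofPt_mem sq₁, mem_iff_ofPt_mem sq₂, mem_iff_ofPt_mem sq₃]
  constructor
  · rintro ⟨z, hz⟩
    exact ⟨⟨Points.map fst z, by rw [← hz, Points.map_comp]⟩,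
      ⟨Points.map snd z, by rw [← hz, sq.w, Points.map_comp]⟩⟩
  · rintro ⟨⟨x, hx⟩, ⟨y, hy⟩⟩
    obtain ⟨z, hz, -⟩ := exists_point_lift sq x y (hx.trans hy.symm)
    exact ⟨z, by rw [Points.map_comp, hz, hx]⟩

end Groth.Agent.SchImage14
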