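import Groth.Agent.Lib.SchImage14.Immersion
import Groth.Agent.Lib.SchImage14.DenseSpace
import Groth.Agent.Lib.AlgSpDecent.RedInduced
import Groth.Agent.S10193

/-!
# Immersions of algebraic spaces into their scheme theoretic image
-/

universe u

set_option backward.isDefEq.respectTransparency.types false

open CategoryTheory CategoryTheory.Limits AlgebraicGeometry AlgSp Opposite
open Groth.Agent.AlgSpace Groth.Agent.AlgSpDecent

namespace Groth.Agent.SchImage14

variable {S : Scheme.{u}}

theorem preimage_range_eq {F G : Sp S} {i : G ⟶ F} {V P : Over S} {φ : (yon S).obj V ⟶ F}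
    {fst : (yon S).obj P ⟶ G} {snd : P ⟶ V} (sq : IsPullback fst ((yon S).map snd) i φ) :
    Points.ofPt φ ⁻¹' Set.range (Points.map i) = Set.range snd.left := by
  ext v
  constructor
  · rintro ⟨g, hg⟩
    obtain ⟨w, -, hw⟩ := exists_pt_of_isPullback sq hg
    exact ⟨w, hw⟩
  · rintro ⟨w, rfl⟩
    exact ⟨Points.ofPt fst w, by rw [Points.map_ofPt, sq.w, ofPt_map_comp]⟩

theorem kerAt_eq_of_isPullback {F G : Sp S} {f : F ⟶ G} {U P : Over S} {y : (yon S).obj U ⟶ G}
    {fst : (yon S).obj P ⟶ F} {snd : P ⟶ U} (sq : IsPullback fst ((yon S).map snd) f y) :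
    kerAt f y = snd.left.ker := by
  refine le_antisymm (kerAt_le fst snd sq.w) (le_kerAt_iff.2 fun A a c w => ?_)
  obtain ⟨l, hl⟩ := (yon S).map_surjective (sq.lift a ((yon S).map c) w)
  have h : l ≫ snd = c := (yon S).map_injective (by rw [Functor.map_comp, hl, IsPullback.lift_snd])
  rw [← h, Over.comp_left]
  exact Scheme.Hom.le_ker_comp _ _

/-- The image of an immersion, transported to a closed subscheme with the same ideal. -/
theorem props_of_ker_eq {Z X P : Scheme.{u}} (k : Z ⟶ X) [IsImmersion k]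
    (hk : QuasiCompact k ∨ IsReduced Z) (i : P ⟶ X) [IsClosedImmersion i] (hker : i.ker = k.ker)
    (m : Z ⟶ P) (hm : m ≫ i = k) :
    ∃ _ : IsOpenImmersion m, CInt.IsSchematicallyDense m.opensRange ∧ DenseRange m := by
  have := isOpenImmersion_toImage k hk
  have h : i.ker = k.imageι.ker := by
    rw [hker, Scheme.Hom.imageι, Scheme.IdealSheafData.ker_subschemeι]
  let e := IsClosedImmersion.lift i k.imageι h.le
  have : IsIso e := IsClosedImmersion.isIso_lift i k.imageι h
  obtain rfl : m = k.toImage ≫ e := by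
    rw [← cancel_mono i, hm, Category.assoc, IsClosedImmersion.lift_fac, k.toImage_imageι]
  refine ⟨inferInstance, ?_, ?_⟩
  · have he : (k.toImage ≫ e).opensRange = inv e ⁻¹ᵁ k.toImage.opensRange := by
      ext p
      constructor
      · rintro ⟨z, rfl⟩
        exact ⟨z, by rw [Scheme.Hom.comp_apply, ← Scheme.Hom.comp_apply, IsIso.hom_inv_id]; rfl⟩
      · rintro ⟨z, hz⟩
        exact ⟨z, by rw [Scheme.Hom.comp_apply, hz, ← Scheme.Hom.comp_apply, IsIso.inv_hom_id]; rfl⟩
    rw [he]
    exact dense_preimage_of_etale (inv e) (dense_opensRange_toImage k hk)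
  · rw [Scheme.Hom.comp_base, TopCat.coe_comp]
    exact DenseRange.comp e.surjective.denseRange (denseRange_toImage k hk) e.continuous

/-- The scheme theoretic image of a reduced space has on a chart the ideal of the chart of it. -/
theorem subIdeal_eq_ker_of_reduced {Z X Zbar : Space S} (h : Z ⟶ X) (hr : IsReducedSp Z.obj)
    (c : Zbar ⟶ X) (hc : IsSchImage h.hom c.hom) {V P : Over S} {φ : (yon S).obj V ⟶ X.obj}
    (hφe : RepWith @Etale φ) {fst : (yon S).obj P ⟶ Z.obj}
    {snd : P ⟶ V} (sq : IsPullback fst ((yon S).map snd) h.hom φ) :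
    subIdeal hc.1 φ = snd.left.ker := by
  refine le_antisymm ((subIdeal_le_kerAt hc.1 hc.2.1).trans (kerAt_le fst snd sq.w)) ?_
  have : IsReduced P.left := AlgSpDescent.prop_of_etale_chart AlgSpDescent.isReduced_up
    AlgSpDescent.isReduced_down hr (repWith_of_isPullback sq.flip hφe)
  obtain ⟨Z₀, i₀, hi₀, hT, hZ₀⟩ := RedInduced.exists_isRedInduced X
    (closure (Set.range (Points.map h.hom))) isClosed_closure
  obtain ⟨g, hg⟩ := (S10193.result i₀ hi₀ hr h).2 (subset_closure.trans hT.ge)
  obtain ⟨k, hk⟩ := hc.2.2 i₀.hom Z₀.property hi₀ ⟨g.hom, congrArg (fun q => q.hom) hg⟩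
  refine le_trans ?_ ((subIdeal_le_kerAt hi₀ ⟨k, hk⟩).trans
    (kerAt_le (hc.1.1.fst φ) (hc.1.1.snd φ) (hc.1.1.isPullback φ).w))
  have sq₀ := hi₀.1.isPullback φ
  have : IsReduced (hi₀.1.pullback φ).left := AlgSpDescent.prop_of_etale_chart AlgSpDescent.isReduced_up
    AlgSpDescent.isReduced_down hZ₀ (repWith_of_isPullback sq₀.flip hφe)
  rw [subIdeal, RedSepLib.ker_eq_vanishingIdeal, RedSepLib.ker_eq_vanishingIdeal,
    ← Scheme.IdealSheafData.le_support_iff_le_vanishingIdeal, TopologicalSpace.Closeds.closure_le,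
    Scheme.IdealSheafData.coe_support_vanishingIdeal, ← preimage_range_eq sq₀, hT,
    (isOpenMap_ofPt φ hφe).preimage_closure_eq_closure_preimage (Points.continuous_ofPt φ),
    preimage_range_eq sq]
  exact Set.Subset.rfl

/-- A quasi-compact or reduced immersion is a dense open of its scheme theoretic image. -/
theorem immersion_into_schImage {Z X Zbar : Space S} (h : Z ⟶ X)
    (hh : RepWith @IsImmersion h.hom) (hq : IsQuasiCompactMor h.hom ∨ IsReducedSp Z.obj)
    (c : Zbar ⟶ X) (hc : IsSchImage h.hom c.hom) (h' : Z ⟶ Zbar) (fac : h' ≫ c = h) :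
    RepWith @IsOpenImmersion h'.hom ∧ IsSchDense h'.hom ∧ Dense (Set.range (Points.map h'.hom)) := by
  obtain ⟨κ, W, φ, hW, hφe, hφs⟩ := exists_affines_atlas X.property
  have fac' : h'.hom ≫ c.hom = h.hom := congrArg (fun q => q.hom) fac
  have sqk := hh.1.isPullback φ
  have : IsImmersion (hh.1.snd φ).left := hh.2 φ _ _ sqk
  have hk : QuasiCompact (hh.1.snd φ).left ∨ IsReduced (hh.1.pullback φ).left := by
    rcases hq with hq | hr
    · exact Or.inl (((repWith_quasiCompact_iff Z.property X.property hh.1).2 hq).2 φ _ _ sqk)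
    · exact Or.inr (AlgSpDescent.prop_of_etale_chart AlgSpDescent.isReduced_up
        AlgSpDescent.isReduced_down hr (repWith_of_isPullback sqk.flip hφe))
  have hker : subIdeal hc.1 φ = (hh.1.snd φ).left.ker := by
    rcases hq with hq | hr
    · rw [subIdeal_eq_kerAt_atlas Z.property X.property hq hW hc hφe hφs, kerAt_eq_of_isPullback sqk]
    · exact subIdeal_eq_ker_of_reduced h hr c hc hφe sqk
  have sqP := hc.1.1.isPullback φ
  have := isClosedImmersion_snd hc.1 φ
  obtain ⟨m, hm⟩ := (yon S).map_surjective (sqP.lift (hh.1.fst φ ≫ h'.hom) ((yon S).map (hh.1.snd φ))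
    (by rw [Category.assoc, fac', sqk.w]))
  have hmP : m ≫ hc.1.1.snd φ = hh.1.snd φ := (yon S).map_injective (by
    rw [Functor.map_comp, hm, IsPullback.lift_snd])
  have sq' : IsPullback (hh.1.fst φ) ((yon S).map m) h'.hom (hc.1.1.fst φ) :=
    IsPullback.of_bot (by rw [← Functor.map_comp, hmP, fac']; exact sqk)
      (by rw [hm, IsPullback.lift_fst]) sqP
  obtain ⟨hmo, hmd, hmr⟩ := props_of_ker_eq (hh.1.snd φ).left hk (hc.1.1.snd φ).left hker m.left
    (by rw [← Over.comp_left, hmP])
  have hπe : RepWith @Etale (hc.1.1.fst φ) := repWith_of_isPullback sqP.flip hφe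
  have hπs : RepWith @Surjective (hc.1.1.fst φ) := repWith_of_isPullback sqP.flip hφs
  have ho : RepWith @IsOpenImmersion h'.hom :=
    repWith_openImmersion_of_etale_cover hπe hπs sq' ((repWith_yon_map_iff _ _).2 hmo)
  obtain ⟨O, fstO, sqO⟩ := exists_isPullback_open ho (hc.1.1.fst φ)
  have hO : O = m.left.opensRange := by
    ext p
    show p ∈ O ↔ p ∈ Set.range m.left
    rw [mem_iff_ofPt_mem sqO, ← preimage_range_eq sq']
    rfl
  refine ⟨ho, ⟨ho, _, _, O, fstO, hπe, hπs, sqO, hO ▸ hmd⟩, ?_⟩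
  rw [dense_iff_closure_eq, Set.eq_univ_iff_forall]
  intro z
  obtain ⟨p, rfl⟩ := surjective_ofPt hπs z
  refine map_mem_closure (Points.continuous_ofPt _) (hmr p) ?_
  rintro _ ⟨q, rfl⟩
  exact (preimage_range_eq sq').ge ⟨q, rfl⟩

end Groth.Agent.SchImage14
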