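import Groth.Agent.Lib.SchImage14.IdealEt
import Groth.Agent.Lib.SchImage14.ImmSpace

/-!
# Scheme theoretic images and kernel families
-/

universe u

set_option backward.isDefEq.respectTransparency false

open CategoryTheory CategoryTheory.Limits AlgebraicGeometry AlgSp Opposite
open Groth.Agent.AlgSpace Groth.Agent.AlgSpDecent

namespace Groth.Agent.SchImage14

variable {S : Scheme.{u}} {X Y Z : Space S} {f : X ⟶ Y} (hf : Representable f.hom)

theorem quasiCompact_snd (hqc : IsQuasiCompactMor f.hom) {T : Over S} (y : (yon S).obj T ⟶ Y.obj) :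
    QuasiCompact (hf.snd y).left :=
  ((repWith_quasiCompact_iff X.property Y.property hf).2 hqc).2 y _ _ (hf.isPullback y)

/-- The ideal of the image of a representable quasi-compact morphism on an étale chart. -/
theorem subIdeal_eq_ker_snd (hqc : IsQuasiCompactMor f.hom) {i : Z ⟶ Y} (hZ : IsSchImage f.hom i.hom)
    {T : Over S} (y : (yon S).obj T ⟶ Y.obj) (hy : RepWith @Etale y) :
    subIdeal hZ.1 y = (hf.snd y).left.ker := by
  obtain ⟨κ, W, φ, hW, hφe, hφs⟩ := exists_affines_atlas Y.property
  have sqR := hφe.1.isPullback y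
  let q := hφe.1.snd y
  obtain ⟨p, hp⟩ := (yon S).map_surjective (hφe.1.fst y)
  have : Etale q.left := hφe.2 _ _ _ sqR
  have : Surjective q.left := hφs.2 _ _ _ sqR
  have : Etale p.left := hy.2 φ _ _ (by rw [hp]; exact sqR.flip)
  have w : (yon S).map p ≫ φ = (yon S).map q ≫ y := by rw [hp, sqR.w]
  have := quasiCompact_snd hf hqc y
  have : QuasiCompact ((Over.forget S).map (hf.snd y)) := quasiCompact_snd hf hqc y
  have : Flat ((Over.forget S).map q) := (inferInstance : Flat q.left)
  refine comap_injective_of_flat_surjective q.left ?_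
  rw [← subIdeal_comp, ← w, subIdeal_comp, subIdeal_eq_kerAt_atlas X.property Y.property hqc hW hZ hφe hφs,
    kerAt_comap_of_flat X.property Y.property hqc hW p, w]
  exact (kerAt_eq_of_isPullback
    (((IsPullback.of_hasPullback (hf.snd y) q).map (yon S)).paste_horiz (hf.isPullback y))).trans
    (ker_comap_of_flat ((IsPullback.of_hasPullback (hf.snd y) q).map (Over.forget S))).symm

/-- The kernel family of a quasi-compact representable morphism is quasi-coherent. -/
theorem isQCoh_idealOfRep (hqc : IsQuasiCompactMor f.hom) : (idealOfRep hf).IsQCoh := by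
  intro E E' g hE hE'
  refine le_of_eq ?_
  have := quasiCompact_snd hf hqc E.obj.hom
  have := quasiCompact_snd hf hqc E'.obj.hom
  have : Etale g.hom.left.left := EtOver.etale_left g
  rw [idealOfRep_eq hf E hE, idealOfRep_eq hf E' hE',
    ← ker_comap_of_flat (EtOver.isPullback_bcMap_left hf g), EffCartier.comap_ideal_top]

/-- The scheme theoretic image of a quasi-compact representable morphism is cut out by its kernel. -/
theorem isSchImage_iff_isCutOutBy (hqc : IsQuasiCompactMor f.hom) (i : Z ⟶ Y) :
    IsSchImage f.hom i.hom ↔ IsCutOutBy (idealOfRep hf) i.hom := by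
  constructor
  · intro hZ
    refine ⟨hZ.1, IdealEt.ext (funext fun E => funext fun hE => ?_)⟩
    have := quasiCompact_snd hf hqc E.obj.hom
    rw [idealOfRep_eq_subIdeal hZ.1 E hE, idealOfRep_eq hf E hE,
      subIdeal_eq_ker_snd hf hqc hZ E.obj.hom E.property]
  · rintro ⟨hi, he⟩
    refine ⟨hi, exists_factor_of_idealOfRep_le Y.property X.property hf hi (fun E hE => le_of_eq (congrArg (fun J : IdealEt Y.obj => J.ideal E hE) he)), fun Z' i' hZ' hi' hf' => ?_⟩
    refine exists_factor_of_idealOfRep_le Y.property Z.property hi.1 hi' ?_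
    exact he ▸ le_idealOfRep_of_factor hf hi' hf'

end Groth.Agent.SchImage14
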