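import Groth.Agent.Lib.EffCartier.Comap
import Mathlib.AlgebraicGeometry.Morphisms.Flat
import Mathlib.RingTheory.TensorProduct.Quotient

/-!
# Kernels of quasi-compact morphisms commute with flat base change
-/

universe u

open CategoryTheory CategoryTheory.Limits AlgebraicGeometry TensorProduct

namespace Groth.Agent.SchImage14

/-- If `x` maps to zero in a flat base change of `A → M`, it lies in the extended kernel. -/
theorem mem_map_ker_of_tmul_eq_zero {A B M : Type u} [CommRing A] [CommRing B] [CommRing M]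
    [Algebra A B] [Algebra A M] [Module.Flat A B] (x : B) (hx : (x ⊗ₜ[A] (1 : M)) = 0) :
    x ∈ (RingHom.ker (algebraMap A M)).map (algebraMap A B) := by
  let I := RingHom.ker (algebraMap A M)
  let φ : (A ⧸ I) →ₐ[A] M := Ideal.Quotient.liftₐ I (Algebra.ofId A M) fun a ha => ha
  have hφ : Function.Injective φ.toLinearMap := by
    rintro ⟨a⟩ ⟨b⟩ h
    refine Ideal.Quotient.eq.2 (RingHom.mem_ker.2 ?_)
    rw [map_sub, sub_eq_zero]
    exact h
  have h1 : φ.toLinearMap.lTensor B (x ⊗ₜ[A] (1 : A ⧸ I)) = 0 := by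
    rw [LinearMap.lTensor_tmul, AlgHom.toLinearMap_apply, map_one]
    exact hx
  have h2 : (x ⊗ₜ[A] (1 : A ⧸ I)) = 0 :=
    Module.Flat.lTensor_preserves_injective_linearMap (M := B) φ.toLinearMap hφ
      (h1.trans (map_zero _).symm)
  have h3 : Algebra.TensorProduct.quotIdealMapEquivTensorQuot B I (Ideal.Quotient.mk _ x) = 0 :=
    (Algebra.TensorProduct.quotIdealMapEquivTensorQuot_mk B I x).trans h2
  exact Ideal.Quotient.eq_zero_iff_mem.1
    ((Algebra.TensorProduct.quotIdealMapEquivTensorQuot B I).map_eq_zero_iff.1 h3)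

/-- The same statement for a pushout square of rings. -/
theorem mem_map_ker_of_isPushout {A M B P : CommRingCat.{u}} {φ : A ⟶ M} {ψ : A ⟶ B}
    {inl : M ⟶ P} {inr : B ⟶ P} (h : IsPushout φ ψ inl inr) (hψ : ψ.hom.Flat) (x : B)
    (hx : inr x = 0) : x ∈ (RingHom.ker φ.hom).map ψ.hom := by
  algebraize [φ.hom, ψ.hom]
  have h' := CommRingCat.isPushout_tensorProduct A M B
  let e := h.isoIsPushout _ _ h'
  have h0 : (h'.cocone.inr) x = 0 := by
    have he : inr ≫ e.hom = CommRingCat.ofHom Algebra.TensorProduct.includeRight.toRingHom :=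
      h.inr_isoIsPushout_hom _ _ h'
    change (CommRingCat.ofHom (Algebra.TensorProduct.includeRight (R := A) (A := M) (B := B)).toRingHom) x = 0
    rw [← he, ConcreteCategory.comp_apply, hx, map_zero]
  have h1 : (x ⊗ₜ[A] (1 : M)) = 0 := by
    have := congrArg (TensorProduct.comm A M B) (show ((1 : M) ⊗ₜ[A] x) = 0 from h0)
    simpa using this
  exact mem_map_ker_of_tmul_eq_zero x h1

/-- The kernel of a quasi-compact morphism commutes with flat base change. -/
theorem ker_comap_of_flat {X Y S T : Scheme.{u}} {f : T ⟶ S} {g : Y ⟶ X} {iX : X ⟶ S} {iY : Y ⟶ T}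
    (H : IsPullback g iY iX f) [QuasiCompact iX] [Flat f] : iX.ker.comap f = iY.ker := by
  have : QuasiCompact iY := MorphismProperty.of_isPullback (P := @QuasiCompact) H inferInstance
  refine le_antisymm ?_ ?_
  · rw [← Scheme.IdealSheafData.le_map_iff_comap_le, ← Scheme.Hom.ker_comp, ← H.w]
    exact g.le_ker_comp iX
  · let ι := {p : T.affineOpens × S.affineOpens // p.1.1 ≤ f ⁻¹ᵁ p.2.1}
    refine Scheme.IdealSheafData.le_of_iSup_eq_top (fun p : ι => p.1.1) ?_ fun ⟨(W, U), e⟩ => ?_
    · refine top_le_iff.1 fun t _ => TopologicalSpace.Opens.mem_iSup.2 ?_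
      obtain ⟨U, hU, htU, -⟩ := exists_isAffineOpen_mem_and_subset (X := S) (x := f t) (U := ⊤) trivial
      obtain ⟨W, hW, htW, hWU⟩ := exists_isAffineOpen_mem_and_subset (X := T) (x := t)
        (U := f ⁻¹ᵁ U) htU
      exact ⟨⟨(⟨W, hW⟩, ⟨U, hU⟩), hWU⟩, htW⟩
    · intro x hx
      rw [EffCartier.comap_ideal iX.ker f U W e, Scheme.Hom.ker_apply]
      rw [Scheme.Hom.ker_apply] at hx
      have hUY : iY ⁻¹ᵁ W.1 = g ⁻¹ᵁ (iX ⁻¹ᵁ U.1) ⊓ iY ⁻¹ᵁ W.1 := by
        refine le_antisymm (le_inf ?_ le_rfl) inf_le_right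
        rw [← Scheme.Hom.comp_preimage, H.w, Scheme.Hom.comp_preimage]
        exact iY.preimage_mono e
      have := mono_pushoutSection_of_isCompact_of_flat_right H e le_rfl hUY U.2 W.2
        (iX.isCompact_preimage U.2.isCompact)
      have hx' : (iY.appLE W.1 (iY ⁻¹ᵁ W.1) le_rfl) x = 0 := by
        rw [← Scheme.Hom.app_eq_appLE]; exact hx
      have := mem_map_ker_of_isPushout
        (IsPushout.of_hasPushout (iX.appLE U.1 (iX ⁻¹ᵁ U.1) le_rfl) (f.appLE U.1 W.1 e))
        (f.flat_appLE U.2 W.2 e) x (by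
          refine (CategoryTheory.ConcreteCategory.injective_of_mono_of_preservesPullback
            (pushoutSection H e le_rfl hUY)) ?_
          rw [map_zero, ← ConcreteCategory.comp_apply, pushout.inr_desc]
          exact hx')
      rwa [← Scheme.Hom.app_eq_appLE] at this

end Groth.Agent.SchImage14
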