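import Groth.Agent.Lib.SchImage14.Ker
import Groth.Agent.Lib.AlgSpDecent.RedInduced
import Groth.Agent.Lib.AlgSpDescent.MonoLft
import Groth.Agent.Lib.AlgSpDescent.AffineCrit
import Groth.Agent.Lib.AlgSpace.Coprod
import Groth.Agent.Lib.AlgSpace.QC
import Groth.Agent.Lib.AlgSpace.LocP

/-!
# Closed subspaces as ideals on charts, and scheme theoretic images of morphisms of algebraic spaces
-/

universe u

set_option backward.isDefEq.respectTransparency.types false

open CategoryTheory CategoryTheory.Limits AlgebraicGeometry AlgSp Opposite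
open Groth.Agent.AlgSpace Groth.Agent.AlgSpDecent

namespace Groth.Agent.SchImage14

variable {S : Scheme.{u}}

/-- Factoring through a monomorphism can be checked after a locally surjective map. -/
theorem exists_factor_of_locSurj {A F G Z : Sp S} (i : Z ⟶ G) [Mono i] (a : A ⟶ F)
    (ha : Sheaf.IsLocallySurjective a) (f : F ⟶ G) (b : A ⟶ Z) (h : b ≫ i = a ≫ f) :
    ∃ g : F ⟶ Z, g ≫ i = f := by
  let l := pullback.lift b a h
  have : Sheaf.IsLocallySurjective (pullback.snd i f) :=
    Presheaf.isLocallySurjective_of_isLocallySurjective_fac (AlgSp.J S)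
      (f₁ := l.hom) (f₃ := a.hom) (congrArg (fun q => q.hom) (pullback.lift_snd b a h))
  have : Epi (pullback.snd i f) := Sheaf.epi_of_isLocallySurjective' _
  have : IsIso (pullback.snd i f) := isIso_of_mono_of_epi _
  exact ⟨inv (pullback.snd i f) ≫ pullback.fst i f, by
    rw [Category.assoc, pullback.condition, IsIso.inv_hom_id_assoc]⟩

/-- The ideal of the preimage of a closed subspace in a scheme over the space. -/
noncomputable def subIdeal {G Z : Sp S} {i : Z ⟶ G} (hi : RepWith @IsClosedImmersion i) {U : Over S}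
    (y : (yon S).obj U ⟶ G) : U.left.IdealSheafData :=
  (hi.1.snd y).left.ker

section subIdeal

variable {G Z : Sp S} {i : Z ⟶ G} (hi : RepWith @IsClosedImmersion i) {U : Over S}
  (y : (yon S).obj U ⟶ G)

lemma isClosedImmersion_snd : IsClosedImmersion (hi.1.snd y).left :=
  hi.2 y _ _ (hi.1.isPullback y)

lemma subIdeal_eq_ker {P : Over S} {fst : (yon S).obj P ⟶ Z} {snd : P ⟶ U}
    (sq : IsPullback fst ((yon S).map snd) i y) : subIdeal hi y = snd.left.ker := by
  let e := (hi.1.isPullback y).isoIsPullback _ _ sq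
  obtain ⟨m, hm⟩ := (yon S).map_surjective e.hom
  have hme : IsIso ((yon S).map m) := hm ▸ inferInstance
  have : IsIso m := isIso_of_fully_faithful (yon S) m
  have h : m ≫ snd = hi.1.snd y := (yon S).map_injective (by
    rw [Functor.map_comp, hm]; exact (hi.1.isPullback y).isoIsPullback_hom_snd _ _ sq)
  have : IsIso m.left := inferInstanceAs (IsIso ((Over.forget S).map m))
  rw [subIdeal, ← h, Over.comp_left, Scheme.Hom.ker_comp_of_isIso]

lemma exists_lift_iff {A : Over S} (c : A ⟶ U) :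
    (∃ b : (yon S).obj A ⟶ Z, b ≫ i = (yon S).map c ≫ y) ↔ subIdeal hi y ≤ c.left.ker := by
  constructor
  · rintro ⟨b, hb⟩
    obtain ⟨l, hl⟩ := (yon S).map_surjective ((hi.1.isPullback y).lift b ((yon S).map c) hb)
    have h : l ≫ hi.1.snd y = c := (yon S).map_injective (by
      rw [Functor.map_comp, hl, IsPullback.lift_snd])
    rw [← h, Over.comp_left]
    exact Scheme.Hom.le_ker_comp _ _
  · intro h
    have := isClosedImmersion_snd hi y
    have hl : IsClosedImmersion.lift (hi.1.snd y).left c.left h ≫ (hi.1.pullback y).hom = A.hom := by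
      rw [← Over.w (hi.1.snd y), IsClosedImmersion.lift_fac_assoc, Over.w]
    let l : A ⟶ hi.1.pullback y := Over.homMk (IsClosedImmersion.lift (hi.1.snd y).left c.left h) hl
    have h' : l ≫ hi.1.snd y = c := Over.OverMorphism.ext (IsClosedImmersion.lift_fac _ _ h)
    exact ⟨(yon S).map l ≫ hi.1.fst y, by
      rw [Category.assoc, (hi.1.isPullback y).w, ← Category.assoc, ← Functor.map_comp, h']⟩

lemma subIdeal_comp {U' : Over S} (p : U' ⟶ U) :
    subIdeal hi ((yon S).map p ≫ y) = (subIdeal hi y).comap p.left := by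
  have sq : IsPullback ((yon S).map (pullback.fst (hi.1.snd y) p) ≫ hi.1.fst y)
      ((yon S).map (pullback.snd (hi.1.snd y) p)) i ((yon S).map p ≫ y) :=
    ((IsPullback.of_hasPullback (hi.1.snd y) p).map (yon S)).paste_horiz (hi.1.isPullback y)
  have := isClosedImmersion_snd hi y
  have sq' := ((IsPullback.of_hasPullback (hi.1.snd y) p).map (Over.forget S)).flip
  rw [subIdeal_eq_ker hi _ sq, subIdeal, ← Scheme.IdealSheafData.ker_fst_of_isClosedImmersion]
  exact (congrArg Scheme.Hom.ker sq'.isoPullback_hom_fst.symm).trans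
    (Scheme.Hom.ker_comp_of_isIso sq'.isoPullback.hom _)

lemma subIdeal_invariant {V R : Over S} {φ : (yon S).obj V ⟶ G} {s t : R ⟶ V}
    (h : (yon S).map s ≫ φ = (yon S).map t ≫ φ) :
    (subIdeal hi φ).comap s.left = (subIdeal hi φ).comap t.left := by
  rw [← subIdeal_comp, ← subIdeal_comp, h]

end subIdeal

/-- The infimum of the kernels of the maps to `U` lifting to `F`. -/
noncomputable def kerAt {F G : Sp S} (f : F ⟶ G) {U : Over S} (y : (yon S).obj U ⟶ G) :
    U.left.IdealSheafData :=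
  sInf {I | ∃ (A : Over S) (a : (yon S).obj A ⟶ F) (c : A ⟶ U),
    a ≫ f = (yon S).map c ≫ y ∧ c.left.ker = I}

section kerAt

variable {F G Z : Sp S} {f : F ⟶ G} {U : Over S} {y : (yon S).obj U ⟶ G}

lemma kerAt_le {A : Over S} (a : (yon S).obj A ⟶ F) (c : A ⟶ U) (w : a ≫ f = (yon S).map c ≫ y) :
    kerAt f y ≤ c.left.ker :=
  sInf_le ⟨A, a, c, w, rfl⟩

lemma le_kerAt_iff {J : U.left.IdealSheafData} :
    J ≤ kerAt f y ↔ ∀ (A : Over S) (a : (yon S).obj A ⟶ F) (c : A ⟶ U),
      a ≫ f = (yon S).map c ≫ y → J ≤ c.left.ker :=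
  ⟨fun h A a c w => h.trans (kerAt_le a c w), fun h => le_sInf (by
    rintro I ⟨A, a, c, w, rfl⟩; exact h A a c w)⟩

lemma subIdeal_le_kerAt {i : Z ⟶ G} (hi : RepWith @IsClosedImmersion i)
    (hf : ∃ f' : F ⟶ Z, f' ≫ i = f) : subIdeal hi y ≤ kerAt f y := by
  obtain ⟨f', rfl⟩ := hf
  exact le_kerAt_iff.2 fun A a c w => (exists_lift_iff hi y c).1 ⟨a ≫ f', by rw [Category.assoc, w]⟩

/-- A morphism factors through a closed subspace as soon as the ideal of the subspace on a chart
kills it. -/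
theorem exists_factor (hF : IsAlgSpace F) {i : Z ⟶ G} (hi : RepWith @IsClosedImmersion i)
    (he : RepWith @Etale y) (hs : RepWith @Surjective y) (h : subIdeal hi y ≤ kerAt f y) :
    ∃ g : F ⟶ Z, g ≫ i = f := by
  have := AlgSpDescent.mono_of_repWith_closedImmersion hi
  obtain ⟨A, a, hae, has⟩ := hF.atlas
  have sq := he.1.isPullback (a ≫ f)
  let e := (yon S).map (he.1.snd (a ≫ f))
  have hee : RepWith @Etale e := repWith_of_isPullback sq he
  have hes : RepWith @Surjective e := repWith_of_isPullback sq hs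
  obtain ⟨c, hc⟩ := (yon S).map_surjective (he.1.fst (a ≫ f))
  have w : (e ≫ a) ≫ f = (yon S).map c ≫ y := by rw [Category.assoc, ← sq.w, hc]
  obtain ⟨b, hb⟩ := (exists_lift_iff hi y c).2 (le_kerAt_iff.1 h _ _ c w)
  have := isLocallySurjective_of_etale (repWith_comp hee hae) (repWith_comp hes has)
  exact exists_factor_of_locSurj i (e ≫ a) this f b (hb.trans w.symm)

/-- Closed subspaces are ordered by their ideals on a chart. -/
theorem exists_hom_of_le (hZ : IsAlgSpace Z) {Z' : Sp S} {i : Z ⟶ G}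
    (hi : RepWith @IsClosedImmersion i) {i' : Z' ⟶ G} (hi' : RepWith @IsClosedImmersion i')
    (he : RepWith @Etale y) (hs : RepWith @Surjective y) (h : subIdeal hi' y ≤ subIdeal hi y) :
    ∃ k : Z ⟶ Z', k ≫ i' = i :=
  exists_factor hZ hi' he hs (h.trans (subIdeal_le_kerAt hi ⟨𝟙 Z, Category.id_comp i⟩))

end kerAt

/-- An ideal on a chart invariant under the relation is the ideal of a closed subspace. -/
theorem exists_closedSubspace (X : Space S) {V R : Over S} {φ : (yon S).obj V ⟶ X.obj}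
    (hφe : RepWith @Etale φ) (hφs : RepWith @Surjective φ) {s t : R ⟶ V}
    (sq : IsPullback ((yon S).map t) ((yon S).map s) φ φ) (J : V.left.IdealSheafData)
    (hJ : J.comap s.left = J.comap t.left) :
    ∃ (Z : Space S) (i : Z ⟶ X) (hi : RepWith @IsClosedImmersion i.hom), subIdeal hi φ = J := by
  let Z : Over S := Over.mk (J.subschemeι ≫ V.hom)
  let ι : Z ⟶ V := Over.homMk J.subschemeι rfl
  have : IsClosedImmersion ι.left := inferInstanceAs (IsClosedImmersion J.subschemeι)
  have : Mono ι := (Over.forget S).mono_of_mono_map (inferInstanceAs (Mono ι.left))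
  let RZ := pullback s ι
  let a : RZ ⟶ R := pullback.fst s ι
  have sqs : IsPullback a (pullback.snd s ι) s ι := IsPullback.of_hasPullback s ι
  have hle : ι.left.ker ≤ (a.left ≫ t.left).ker := by
    rw [show ι.left = J.subschemeι from rfl, Scheme.IdealSheafData.ker_subschemeι,
      Scheme.Hom.ker_comp, Scheme.IdealSheafData.le_map_iff_comap_le, ← hJ,
      ← Scheme.IdealSheafData.le_map_iff_comap_le, ← Scheme.Hom.ker_comp, ← Over.comp_left, sqs.w,
      Over.comp_left, show ι.left = J.subschemeι from rfl]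
    exact J.ker_subschemeι.ge.trans (Scheme.Hom.le_ker_comp _ _)
  let b' : RZ ⟶ Z := Over.homMk (IsClosedImmersion.lift ι.left (a.left ≫ t.left) hle) (by
    rw [← Over.w ι, IsClosedImmersion.lift_fac_assoc, Category.assoc, Over.w t, Over.w a])
  have hb' : b' ≫ ι = a ≫ t := Over.OverMorphism.ext (IsClosedImmersion.lift_fac _ _ hle)
  let m := Sheaf.imageι ((yon S).map ι ≫ φ)
  have sqP : IsPullback (Sheaf.toImage ((yon S).map ι ≫ φ)) ((yon S).map ι) m φ :=
    RedInduced.isPullback_image sq ι sqs hb'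
  have hm : RepWith @IsClosedImmersion m := repWith_closedImmersion_of_etale_cover m φ hφe hφs sqP
    ((repWith_yon_map_iff _ _).2 ‹_›)
  refine ⟨⟨Sheaf.image ((yon S).map ι ≫ φ), isAlgSpace_of_representable hm.1 X.property⟩,
    ObjectProperty.homMk m, hm, ?_⟩
  exact (subIdeal_eq_ker hm φ sqP).trans J.ker_subschemeι

/-- Scheme theoretic images exist. -/
theorem exists_isSchImage {X Y : Space S} (f : X ⟶ Y) :
    ∃ (Z : Space S) (i : Z ⟶ Y), IsSchImage f.hom i.hom := by
  obtain ⟨V, φ, hφe, hφs⟩ := Y.property.atlas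
  obtain ⟨R, s, tf, sq⟩ := hφe.1 φ
  obtain ⟨t, rfl⟩ := (yon S).map_surjective tf
  let 𝒮 : Set V.left.IdealSheafData := {I | ∃ (Z' : Sp S) (i' : Z' ⟶ Y.obj)
    (hi' : RepWith @IsClosedImmersion i'),
      IsAlgSpace Z' ∧ (∃ f'' : X.obj ⟶ Z', f'' ≫ i' = f.hom) ∧ subIdeal hi' φ = I}
  have hinv : (sSup 𝒮).comap s.left = (sSup 𝒮).comap t.left := by
    rw [(Scheme.IdealSheafData.map_gc s.left).l_sSup, (Scheme.IdealSheafData.map_gc t.left).l_sSup]
    refine biSup_congr ?_
    rintro I ⟨Z', i', hi', -, -, rfl⟩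
    exact subIdeal_invariant hi' sq.w.symm
  obtain ⟨Z, i, hi, hiJ⟩ := exists_closedSubspace Y hφe hφs sq (sSup 𝒮) hinv
  refine ⟨Z, i, hi, exists_factor X.property hi hφe hφs ?_, fun Z' i' hZ' hi' hf => ?_⟩
  · rw [hiJ]
    refine sSup_le ?_
    rintro I ⟨Z', i', hi', -, hf, rfl⟩
    exact subIdeal_le_kerAt hi' hf
  · exact exists_hom_of_le Z.property hi hi' hφe hφs (hiJ ▸ le_sSup ⟨Z', i', hi', hZ', hf, rfl⟩)

/-- A closed subspace with the kernel as ideal is the scheme theoretic image. -/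
theorem isSchImage_of_kerAt_le {F G Z : Sp S} (hF : IsAlgSpace F) (hZ : IsAlgSpace Z) {f : F ⟶ G}
    {i : Z ⟶ G} (hi : RepWith @IsClosedImmersion i) {U : Over S} {y : (yon S).obj U ⟶ G}
    (he : RepWith @Etale y) (hs : RepWith @Surjective y) (h₁ : subIdeal hi y ≤ kerAt f y)
    (h₂ : kerAt f y ≤ subIdeal hi y) : IsSchImage f i :=
  ⟨hi, exists_factor hF hi he hs h₁, fun _ i' _ hi' hf =>
    exists_hom_of_le hZ hi hi' he hs ((subIdeal_le_kerAt hi' hf).trans h₂)⟩

/-- An algebraic space has an atlas by a disjoint union of affine schemes. -/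
theorem exists_affines_atlas {F : Sp S} (hF : IsAlgSpace F) :
    ∃ (κ : Type u) (W : κ → Over S) (φ : (yon S).obj (AlgSpDescent.coprodOver W) ⟶ F),
      (∀ j, IsAffine (W j).left) ∧ RepWith @Etale φ ∧ RepWith @Surjective φ := by
  obtain ⟨V, φ, he, hs⟩ := hF.atlas
  let κ := (V.left.affineOpens : Type u)
  let W : κ → Over S := fun j => Over.mk (j.1.ι ≫ V.hom)
  let q : AlgSpDescent.coprodOver W ⟶ V := Over.homMk (Sigma.desc fun j => j.1.ι)
    (by apply Sigma.hom_ext; intro j; simp [W])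
  have hqe : Etale q.left :=
    IsZariskiLocalAtSource.sigmaDesc (P := @Etale) fun j => inferInstanceAs (Etale j.1.ι)
  have hqs : Surjective q.left := ⟨fun v => by
    obtain ⟨U, hU, hv, -⟩ := exists_isAffineOpen_mem_and_subset (X := V.left) (x := v) (U := ⊤) trivial
    refine ⟨(Sigma.ι (fun j : κ => (W j).left) ⟨U, hU⟩) ⟨v, hv⟩, ?_⟩
    rw [← Scheme.Hom.comp_apply]
    simp [q, W]⟩
  exact ⟨κ, W, (yon S).map q ≫ φ, fun j => j.2, repWith_comp ((repWith_yon_map_iff _ _).2 hqe) he,
    repWith_comp ((repWith_yon_map_iff _ _).2 hqs) hs⟩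

section qc

variable {F G Z : Sp S} (hF : IsAlgSpace F) (hG : IsAlgSpace G) {f : F ⟶ G}
  (hq : IsQuasiCompactMor f) {κ : Type u} {W : κ → Over S} (hW : ∀ j, IsAffine (W j).left)

include hF hG hq hW in
/-- Over a disjoint union of affines the kernel is that of a quasi-compact map of schemes. -/
theorem exists_qc_kerAt_eq (y : (yon S).obj (AlgSpDescent.coprodOver W) ⟶ G) :
    ∃ (A : Over S) (a : (yon S).obj A ⟶ F) (c : A ⟶ AlgSpDescent.coprodOver W),
      a ≫ f = (yon S).map c ≫ y ∧ QuasiCompact c.left ∧ kerAt f y = c.left.ker := by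
  let U := AlgSpDescent.coprodOver W
  let ι := AlgSpDescent.coprodOverι W
  let P := fun j => pullback f ((yon S).map (ι j) ≫ y)
  have hP : ∀ j, IsQuasiCompactSp (P j) := fun j => by
    have := hW j
    exact hq (IsAlgSpace.yon_obj _) ((isQuasiCompactSp_iff (IsAlgSpace.yon_obj _)).2
      (compactSpace_yon_of_affine (W j))) _ _ _ (IsPullback.of_hasPullback _ _)
  choose A r hA hre hrs using fun j => exists_affine_chart (hP j)
  choose c hc using fun j => (yon S).map_surjective (r j ≫ pullback.snd f ((yon S).map (ι j) ≫ y))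
  let cA : AlgSpDescent.coprodOver A ⟶ U :=
    Over.homMk (Limits.Sigma.map fun j => (c j).left) (by apply Sigma.hom_ext; intro j; simp [U])
  obtain ⟨hcol⟩ := AlgSpDescent.nonempty_isColimit_coprodOver A
  let aA : (yon S).obj (AlgSpDescent.coprodOver A) ⟶ F :=
    Cofan.IsColimit.desc hcol fun j => r j ≫ pullback.fst f ((yon S).map (ι j) ≫ y)
  have hιc : ∀ j, AlgSpDescent.coprodOverι A j ≫ cA = c j ≫ ι j := fun j =>
    Over.OverMorphism.ext (by simp [cA, U, ι])
  have w : aA ≫ f = (yon S).map cA ≫ y := by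
    refine Cofan.IsColimit.hom_ext hcol _ _ fun j => ?_
    have e : (Cofan.mk _ fun j => (yon S).map (AlgSpDescent.coprodOverι A j)).inj j =
        (yon S).map (AlgSpDescent.coprodOverι A j) := rfl
    rw [← Category.assoc, Cofan.IsColimit.fac, Category.assoc, pullback.condition, ← Category.assoc,
      ← hc, e, ← Category.assoc, ← Functor.map_comp, ← Functor.map_comp_assoc, hιc, Functor.map_comp,
      Category.assoc]
  have := hA
  have : QuasiCompact cA.left :=
    quasiCompact_sigma_map (fun j => (A j).left) (fun j => (W j).left) fun j => (c j).left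
  refine ⟨_, aA, cA, w, this, le_antisymm (kerAt_le aA cA w) (le_kerAt_iff.2 fun A' a' c' w' => ?_)⟩
  let O : κ → A'.left.Opens := fun j => c'.left ⁻¹ᵁ (Sigma.ι (fun j => (W j).left) j).opensRange
  let o : ∀ j, Over.mk ((O j).ι ≫ A'.hom) ⟶ A' := fun j => Over.homMk (O j).ι rfl
  have hr : ∀ j, Set.range ((o j).left ≫ c'.left) ⊆ Set.range (Sigma.ι (fun j => (W j).left) j) := by
    rintro j _ ⟨z, rfl⟩
    exact z.2
  let c₀ : ∀ j, Over.mk ((O j).ι ≫ A'.hom) ⟶ W j := fun j => Over.homMk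
    (IsOpenImmersion.lift (Sigma.ι (fun j => (W j).left) j) _ (hr j)) (by
      rw [← Over.w (ι j), show (ι j).left = Sigma.ι (fun j => (W j).left) j from rfl,
        IsOpenImmersion.lift_fac_assoc, Category.assoc, Over.w c']; rfl)
  have hc₀ : ∀ j, c₀ j ≫ ι j = o j ≫ c' := fun j =>
    Over.OverMorphism.ext (IsOpenImmersion.lift_fac _ _ _)
  let l : ∀ j, (yon S).obj (Over.mk ((O j).ι ≫ A'.hom)) ⟶ P j := fun j =>
    pullback.lift ((yon S).map (o j) ≫ a') ((yon S).map (c₀ j)) (by
      rw [Category.assoc, w', ← Functor.map_comp_assoc, ← Functor.map_comp_assoc, hc₀])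
  let D := fun j => (hre j).1.pullback (l j)
  let e : ∀ j, D j ⟶ A' := fun j => (hre j).1.snd (l j) ≫ o j
  have he1 : ∀ j, Etale ((hre j).1.snd (l j)).left := fun j =>
    (hre j).2 _ _ _ ((hre j).1.isPullback (l j))
  have hs1 : ∀ j, Surjective ((hre j).1.snd (l j)).left := fun j =>
    (hrs j).2 _ _ _ ((hre j).1.isPullback (l j))
  refine le_ker_of_flat_cover c'.left (fun j => (e j).left) (fun j => ?_) (fun x => ?_) fun j => ?_
  · have := he1 j
    exact inferInstanceAs (Flat (((hre j).1.snd (l j)).left ≫ (O j).ι))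
  · obtain ⟨j, v, hv⟩ := (sigmaOpenCover fun j => (W j).left).exists_eq (c'.left x)
    obtain ⟨d, hd⟩ := (hs1 j).surj (⟨x, ⟨v, hv⟩⟩ : O j)
    exact ⟨j, d, congrArg (O j).ι hd⟩
  · obtain ⟨d, hd⟩ := (yon S).map_surjective ((hre j).1.fst (l j))
    have h : d ≫ c j = (hre j).1.snd (l j) ≫ c₀ j := (yon S).map_injective (by
      rw [Functor.map_comp, hd, hc, ← Category.assoc, ((hre j).1.isPullback (l j)).w, Category.assoc,
        pullback.lift_snd, Functor.map_comp])
    have h' : (d ≫ AlgSpDescent.coprodOverι A j) ≫ cA = e j ≫ c' := by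
      rw [Category.assoc, hιc, ← Category.assoc, h, Category.assoc, hc₀, Category.assoc]
    rw [← Over.comp_left, ← h', Over.comp_left]
    exact Scheme.Hom.le_ker_comp _ _

include hF hG hq hW in
/-- Kernels commute with flat base change. -/
theorem kerAt_comap_of_flat {y : (yon S).obj (AlgSpDescent.coprodOver W) ⟶ G} {U' : Over S}
    (p : U' ⟶ AlgSpDescent.coprodOver W) [Flat p.left] :
    (kerAt f y).comap p.left = kerAt f ((yon S).map p ≫ y) := by
  obtain ⟨A, a, c, w, hc, hk⟩ := exists_qc_kerAt_eq hF hG hq hW y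
  refine le_antisymm (le_kerAt_iff.2 fun A' a' c' w' => ?_) ?_
  · rw [← Scheme.IdealSheafData.le_map_iff_comap_le, ← Scheme.Hom.ker_comp, ← Over.comp_left]
    exact kerAt_le a' (c' ≫ p) (by rw [Functor.map_comp, Category.assoc, w'])
  · have : QuasiCompact ((Over.forget S).map c) := hc
    have : Flat ((Over.forget S).map p) := ‹Flat p.left›
    rw [hk]
    refine le_trans ?_ (ker_comap_of_flat ((IsPullback.of_hasPullback c p).map (Over.forget S))).ge
    exact kerAt_le ((yon S).map (pullback.fst c p) ≫ a) (pullback.snd c p)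
      (by rw [Category.assoc, w, ← Functor.map_comp_assoc, pullback.condition, Functor.map_comp_assoc])

include hF hG hq hW in
/-- The ideal of the scheme theoretic image of a quasi-compact morphism on a chart. -/
theorem subIdeal_eq_kerAt_atlas {i : Z ⟶ G} (hZ : IsSchImage f i)
    {φ : (yon S).obj (AlgSpDescent.coprodOver W) ⟶ G} (hφe : RepWith @Etale φ)
    (hφs : RepWith @Surjective φ) : subIdeal hZ.1 φ = kerAt f φ := by
  obtain ⟨R, s, tf, sq⟩ := hφe.1 φ
  obtain ⟨t, rfl⟩ := (yon S).map_surjective tf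
  have : Etale s.left := hφe.2 φ _ _ sq
  have : Etale t.left := hφe.2 φ _ _ sq.flip
  have hinv : (kerAt f φ).comap s.left = (kerAt f φ).comap t.left := by
    rw [kerAt_comap_of_flat hF hG hq hW s, kerAt_comap_of_flat hF hG hq hW t, sq.w]
  obtain ⟨Z₀, i₀, hi₀, h₀⟩ := exists_closedSubspace ⟨G, hG⟩ hφe hφs sq _ hinv
  refine le_antisymm (subIdeal_le_kerAt hZ.1 hZ.2.1) ?_
  obtain ⟨k, hk⟩ := hZ.2.2 i₀.hom Z₀.property hi₀ (exists_factor hF hi₀ hφe hφs h₀.le)
  rw [← h₀]
  exact (subIdeal_le_kerAt hi₀ ⟨k, hk⟩).trans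
    (kerAt_le (hZ.1.1.fst φ) (hZ.1.1.snd φ) (hZ.1.1.isPullback φ).w)

include hF hG hq hW in
/-- The ideal of the scheme theoretic image of a quasi-compact morphism on a flat scheme over it. -/
theorem subIdeal_eq_kerAt {i : Z ⟶ G} (hZ : IsSchImage f i)
    {y : (yon S).obj (AlgSpDescent.coprodOver W) ⟶ G}
    (hy : ∀ ⦃R V : Over S⦄ (q : R ⟶ AlgSpDescent.coprodOver W) (φ : (yon S).obj V ⟶ G) (p : R ⟶ V),
      RepWith @Etale φ → Etale q.left → (yon S).map q ≫ y = (yon S).map p ≫ φ → Flat p.left) :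
    subIdeal hZ.1 y = kerAt f y := by
  obtain ⟨μ, W', φ, hW', hφe, hφs⟩ := exists_affines_atlas hG
  obtain ⟨p, hp⟩ := (yon S).map_surjective (hφe.1.fst y)
  have sq := hφe.1.isPullback y
  have : Etale (hφe.1.snd y).left := hφe.2 y _ _ sq
  have : Surjective (hφe.1.snd y).left := hφs.2 y _ _ sq
  have w : (yon S).map (hφe.1.snd y) ≫ y = (yon S).map p ≫ φ := by rw [hp, sq.w]
  have : Flat p.left := hy _ φ p hφe ‹_› w
  refine comap_injective_of_flat_surjective (hφe.1.snd y).left ?_
  rw [← subIdeal_comp, kerAt_comap_of_flat hF hG hq hW, w, subIdeal_comp,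
    subIdeal_eq_kerAt_atlas hF hG hq hW' hZ hφe hφs, kerAt_comap_of_flat hF hG hq hW' p]

end qc

/-- The scheme theoretic image of a quasi-compact morphism commutes with flat base change. -/
theorem isSchImage_flat_base_change {X Y V Z VX ZX : Sp S} (hX : IsAlgSpace X) (hY : IsAlgSpace Y)
    (hV : IsAlgSpace V) (hZ : IsAlgSpace Z) {f : X ⟶ Y} (hf : LocP @Flat f) {g : V ⟶ Y}
    (hg : IsQuasiCompactMor g) {i : Z ⟶ Y} (hi : IsSchImage g i) {g₁ : VX ⟶ V} {gX : VX ⟶ X}
    (sqV : IsPullback g₁ gX g f) {i₁ : ZX ⟶ Z} {iX : ZX ⟶ X} (sqZ : IsPullback i₁ iX i f) :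
    IsSchImage gX iX := by
  obtain ⟨κ, W, w, hW, hwe, hws⟩ := exists_affines_atlas hX
  have hiX : RepWith @IsClosedImmersion iX := repWith_of_isPullback sqZ hi.1
  have hf' : ∃ f' : VX ⟶ ZX, f' ≫ iX = gX := by
    obtain ⟨g', hg'⟩ := hi.2.1
    exact ⟨sqZ.lift (g₁ ≫ g') gX (by rw [Category.assoc, hg', sqV.w]), sqZ.lift_snd _ _ _⟩
  refine isSchImage_of_kerAt_le (isAlgSpace_baseChange hV hY hX sqV) (isAlgSpace_baseChange hZ hY hX sqZ)
    hiX hwe hws (subIdeal_le_kerAt hiX hf') ?_
  have e : subIdeal hiX w = subIdeal hi.1 (w ≫ f) :=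
    (subIdeal_eq_ker hi.1 _ ((hiX.1.isPullback w).paste_horiz sqZ)).symm
  rw [e, subIdeal_eq_kerAt hV hY hg hW hi fun R V' q φ p hφ hq h =>
    hf ((yon S).map q ≫ w) φ p (repWith_comp ((repWith_yon_map_iff _ _).2 hq) hwe) hφ
      (by rw [Category.assoc, h])]
  refine le_kerAt_iff.2 fun A a c hac => kerAt_le (sqV.lift a ((yon S).map c ≫ w) ?_) c ?_
  · rw [Category.assoc]; exact hac
  · exact sqV.lift_snd _ _ _

end Groth.Agent.SchImage14
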