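import Groth.Prelude.Def_AlgSpModX
import Groth.Agent.Lib.SchImage14.Apps
import Groth.Agent.Lib.AlgSpEt.Sections

/-!
# Quasi-coherent families of ideals on affine étale charts and closed subspaces
-/

universe u

set_option backward.isDefEq.respectTransparency false

open CategoryTheory CategoryTheory.Limits AlgebraicGeometry AlgSp Opposite
open Groth.Agent.AlgSpace Groth.Agent.AlgSpDecent

namespace Groth.Agent.SchImage14

variable {S : Scheme.{u}} {X : Sp S}

/-- An open of a chart as an object of the small étale site. -/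
noncomputable def chartOpen {T : Over S} (y : (yon S).obj T ⟶ X) (hy : RepWith @Etale y)
    (U : T.left.Opens) : EtOver X :=
  EtOver.mk ((yon S).map (Over.homMk U.ι rfl : Over.mk (U.ι ≫ T.hom) ⟶ T) ≫ y)
    ((repWith_isMultiplicative (S := S) @Etale).comp_mem _ _
      ((repWith_yon_map_iff _ _).2 (show Etale U.ι from inferInstance)) hy)

/-- The maps of charts between opens. -/
noncomputable def chartMap {T T' : Over S} {y : (yon S).obj T ⟶ X} (hy : RepWith @Etale y)
    {y' : (yon S).obj T' ⟶ X} (hy' : RepWith @Etale y') (p : T' ⟶ T) (hp : (yon S).map p ≫ y = y')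
    {U : T.left.Opens} {W : T'.left.Opens} (e : W ≤ p.left ⁻¹ᵁ U) :
    chartOpen y' hy' W ⟶ chartOpen y hy U :=
  EtOver.homMk (Over.homMk (p.left.resLE U W e) (by
      change p.left.resLE U W e ≫ U.ι ≫ T.hom = W.ι ≫ T'.hom
      rw [Scheme.Hom.resLE_comp_ι_assoc, Over.w p])) (by
    change (yon S).map _ ≫ (yon S).map _ ≫ y = (yon S).map _ ≫ y'
    refine Eq.trans ?_ (congrArg ((yon S).map (Over.homMk W.ι rfl : Over.mk (W.ι ≫ T'.hom) ⟶ T') ≫ ·) hp)
    rw [← Functor.map_comp_assoc]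
    refine Eq.trans ?_ (Functor.map_comp_assoc _ _ _ _)
    exact congrArg (fun q => (yon S).map q ≫ y) (Over.OverMorphism.ext (Scheme.Hom.resLE_comp_ι _ _)))

/-- A quasi-coherent family is mapped onto itself. -/
theorem ideal_map_eq {I : IdealEt X} (hI : I.IsQCoh) {E E' : EtOver X} (g : E' ⟶ E)
    (hE : IsAffine E.obj.left.left) (hE' : IsAffine E'.obj.left.left) :
    (I.ideal E hE).map g.hom.left.left.appTop.hom = I.ideal E' hE' :=
  le_antisymm (I.map_le g hE hE') (hI g hE hE')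

theorem topIso_appLE {A B : Scheme.{u}} (p : A ⟶ B) {U : B.Opens} {W : A.Opens} (e : W ≤ p ⁻¹ᵁ U) :
    (p.resLE U W e).appTop ≫ W.topIso.hom = U.topIso.hom ≫ p.appLE U W e := by
  simp [Scheme.Hom.appTop, Scheme.Hom.app_eq_appLE, Scheme.Hom.resLE_appLE,
    Scheme.Hom.appLE_map, Scheme.Hom.map_appLE]

section family

variable (I : IdealEt X) (hI : I.IsQCoh) {T : Over S} (y : (yon S).obj T ⟶ X) (hy : RepWith @Etale y)

/-- The values of a family on the affine opens of a chart. -/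
noncomputable def chartIdeal (U : T.left.affineOpens) : Ideal Γ(T.left, U) :=
  (I.ideal (chartOpen y hy U.1) U.2).map U.1.topIso.hom.hom

include hI in
theorem chartIdeal_map {T' : Over S} {y' : (yon S).obj T' ⟶ X} (hy' : RepWith @Etale y') (p : T' ⟶ T)
    (hp : (yon S).map p ≫ y = y') (U : T.left.affineOpens) (W : T'.left.affineOpens)
    (e : W.1 ≤ p.left ⁻¹ᵁ U.1) :
    (chartIdeal I y hy U).map (p.left.appLE U.1 W.1 e).hom = chartIdeal I y' hy' W := by
  rw [chartIdeal, chartIdeal, ← ideal_map_eq hI (chartMap hy hy' p hp e) U.2 W.2, Ideal.map_map,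
    Ideal.map_map, ← CommRingCat.hom_comp, ← CommRingCat.hom_comp]
  exact congrArg (fun q : Γ(U.1.toScheme, ⊤) ⟶ Γ(T'.left, W.1) => Ideal.map q.hom (I.ideal (chartOpen y hy U.1) U.2))
    (topIso_appLE p.left e).symm

/-- A quasi-coherent family as an ideal sheaf on a chart. -/
noncomputable def sheafIdeal : T.left.IdealSheafData where
  ideal := chartIdeal I y hy
  map_ideal_basicOpen U f := by
    refine Eq.trans ?_ (chartIdeal_map I hI y hy hy (𝟙 T)
      (by rw [(yon S).map_id, Category.id_comp]) U (T.left.affineBasicOpen f) (T.left.basicOpen_le f))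
    simp [Scheme.Hom.appLE]

theorem sheafIdeal_comp {T' : Over S} {y' : (yon S).obj T' ⟶ X} (hy' : RepWith @Etale y') (p : T' ⟶ T)
    (hp : (yon S).map p ≫ y = y') :
    sheafIdeal I hI y' hy' = (sheafIdeal I hI y hy).comap p.left := by
  let ι := {q : T'.left.affineOpens × T.left.affineOpens // q.1.1 ≤ p.left ⁻¹ᵁ q.2.1}
  refine Scheme.IdealSheafData.ext_of_iSup_eq_top (fun q : ι => q.1.1) ?_ fun ⟨(W, U), e⟩ => ?_
  · refine top_le_iff.1 fun t _ => TopologicalSpace.Opens.mem_iSup.2 ?_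
    obtain ⟨U, hU, htU, -⟩ := exists_isAffineOpen_mem_and_subset (X := T.left) (x := p.left t) (U := ⊤) trivial
    obtain ⟨W, hW, htW, hWU⟩ := exists_isAffineOpen_mem_and_subset (X := T'.left) (x := t)
      (U := p.left ⁻¹ᵁ U) htU
    exact ⟨⟨(⟨W, hW⟩, ⟨U, hU⟩), hWU⟩, htW⟩
  · rw [EffCartier.comap_ideal _ p.left U W e]
    exact (chartIdeal_map I hI y hy hy' p hp U W e).symm

end family

/-- The top value of the ideal sheaf of a family. -/
theorem sheafIdeal_top {I : IdealEt X} (hI : I.IsQCoh) (E : EtOver X) (hE : IsAffine E.obj.left.left) :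
    (sheafIdeal I hI E.obj.hom E.property).ideal ⟨⊤, isAffineOpen_top _⟩ = I.ideal E hE := by
  let T := E.obj.left
  let g : chartOpen E.obj.hom E.property (⊤ : T.left.Opens) ⟶ E :=
    EtOver.homMk (Over.homMk (⊤ : T.left.Opens).ι rfl) rfl
  change chartIdeal I E.obj.hom E.property _ = _
  rw [chartIdeal, ← ideal_map_eq hI g hE (isAffineOpen_top T.left), Ideal.map_map, ← CommRingCat.hom_comp]
  have h : (⊤ : T.left.Opens).ι.appTop ≫ (⊤ : T.left.Opens).topIso.hom = 𝟙 Γ(T.left, ⊤) := by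
    simp [← Functor.map_comp]
  refine (congrArg (fun q : Γ(T.left, ⊤) ⟶ Γ(T.left, ⊤) => Ideal.map q.hom (I.ideal E hE)) h).trans ?_
  exact Ideal.map_id _

variable {Z : Sp S} {i : Z ⟶ X}

/-- The kernel family of a quasi-compact representable morphism on an affine object. -/
theorem idealOfRep_eq (hi : Representable i) (E : EtOver X) (hE : IsAffine E.obj.left.left)
    [QuasiCompact (hi.snd E.obj.hom).left] :
    (idealOfRep hi).ideal E hE = (hi.snd E.obj.hom).left.ker.ideal ⟨⊤, isAffineOpen_top _⟩ := by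
  rw [Scheme.Hom.ker_apply]
  rfl

/-- The kernel family of a closed immersion on an affine object is the ideal of the subspace. -/
theorem idealOfRep_eq_subIdeal (hi : RepWith @IsClosedImmersion i) (E : EtOver X)
    (hE : IsAffine E.obj.left.left) :
    (idealOfRep hi.1).ideal E hE = (subIdeal hi E.obj.hom).ideal ⟨⊤, isAffineOpen_top _⟩ := by
  have := isClosedImmersion_snd hi E.obj.hom
  exact idealOfRep_eq hi.1 E hE

/-- The ideal of an affine open of a chart. -/
theorem subIdeal_ideal (hi : RepWith @IsClosedImmersion i) {T : Over S} (y : (yon S).obj T ⟶ X)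
    (hy : RepWith @Etale y) (U : T.left.affineOpens) :
    (subIdeal hi y).ideal U = chartIdeal (idealOfRep hi.1) y hy U := by
  have hU : IsAffine (chartOpen y hy U.1).obj.left.left := U.2
  rw [chartIdeal, idealOfRep_eq_subIdeal hi (chartOpen y hy U.1) hU]
  let o : Over.mk (U.1.ι ≫ T.hom) ⟶ T := Over.homMk U.1.ι rfl
  have : IsAffine (Over.mk (U.1.ι ≫ T.hom)).left := U.2
  have e : (⊤ : (U.1 : Scheme.{u}).Opens) ≤ o.left ⁻¹ᵁ U.1 := fun z _ => z.2
  change _ = (((subIdeal hi ((yon S).map o ≫ y)).ideal ⟨⊤, _⟩).map U.1.topIso.hom.hom)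
  rw [subIdeal_comp, EffCartier.comap_ideal _ o.left U ⟨⊤, isAffineOpen_top _⟩ e, Ideal.map_map,
    ← CommRingCat.hom_comp]
  have h : U.1.ι.appLE U.1 ⊤ e ≫ U.1.topIso.hom = 𝟙 Γ(T.left, U.1) := by
    simp [← Functor.map_comp]
  refine Eq.trans ?_ (congrArg (fun q : Γ(T.left, U.1) ⟶ Γ(T.left, U.1) => Ideal.map q.hom ((subIdeal hi y).ideal U)) h).symm
  exact (Ideal.map_id _).symm

theorem isQCoh_idealOfRep_of_closed (hi : RepWith @IsClosedImmersion i) : (idealOfRep hi.1).IsQCoh := by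
  intro E E' g hE hE'
  refine le_of_eq ?_
  have hg : (yon S).map g.hom.left ≫ E.obj.hom = E'.obj.hom := CostructuredArrow.w g.hom
  rw [idealOfRep_eq_subIdeal hi E hE, idealOfRep_eq_subIdeal hi E' hE', ← hg, subIdeal_comp,
    EffCartier.comap_ideal_top]

/-- The ideal of a cut out subspace on any chart. -/
theorem subIdeal_eq_sheafIdeal {I : IdealEt X} (hI : I.IsQCoh) (hi : RepWith @IsClosedImmersion i)
    (h : idealOfRep hi.1 = I) {T : Over S} (y : (yon S).obj T ⟶ X) (hy : RepWith @Etale y) :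
    subIdeal hi y = sheafIdeal I hI y hy := by
  subst h
  exact Scheme.IdealSheafData.ext (funext fun U => subIdeal_ideal hi y hy U)

/-- Quasi-coherent families of ideals cut out closed subspaces. -/
theorem exists_isCutOutBy (X : Space S) (I : IdealEt X.obj) (hI : I.IsQCoh) :
    ∃ (Z : Space S) (i : Z ⟶ X), IsCutOutBy I i.hom := by
  obtain ⟨V, φ, hφe, hφs⟩ := X.property.atlas
  obtain ⟨R, s, tf, sq⟩ := hφe.1 φ
  obtain ⟨t, rfl⟩ := (yon S).map_surjective tf
  have : Etale s.left := hφe.2 φ _ _ sq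
  have hs : RepWith @Etale ((yon S).map s ≫ φ) :=
    repWith_comp ((repWith_yon_map_iff _ _).2 (inferInstanceAs (Etale s.left))) hφe
  obtain ⟨Z, i, hi, hiJ⟩ := exists_closedSubspace X hφe hφs sq (sheafIdeal I hI φ hφe) (by
    rw [← sheafIdeal_comp I hI φ hφe hs s rfl, ← sheafIdeal_comp I hI φ hφe hs t sq.w])
  refine ⟨Z, i, hi, IdealEt.ext (funext fun E => funext fun hE => ?_)⟩
  rw [idealOfRep_eq_subIdeal hi E hE, ← sheafIdeal_top hI E hE]
  congr 1
  have sqR := hφe.1.isPullback E.obj.hom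
  obtain ⟨p, hp⟩ := (yon S).map_surjective (hφe.1.fst E.obj.hom)
  have hq : Etale (hφe.1.snd E.obj.hom).left := hφe.2 _ _ _ sqR
  have : Surjective (hφe.1.snd E.obj.hom).left := hφs.2 _ _ _ sqR
  have w : (yon S).map p ≫ φ = (yon S).map (hφe.1.snd E.obj.hom) ≫ E.obj.hom := by rw [hp, sqR.w]
  refine comap_injective_of_flat_surjective (hφe.1.snd E.obj.hom).left ?_
  rw [← subIdeal_comp, ← w, subIdeal_comp, hiJ,
    ← sheafIdeal_comp I hI E.obj.hom E.property (repWith_comp ((repWith_yon_map_iff _ _).2 hq) E.property)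
      _ rfl, ← sheafIdeal_comp I hI φ hφe _ p w]

/-- Factoring through a cut out subspace, on ideals. -/
theorem exists_factor_of_idealOfRep_le {F : Sp S} (hX : IsAlgSpace X) (hF : IsAlgSpace F)
    {f : F ⟶ X} (hf : Representable f) (hi : RepWith @IsClosedImmersion i)
    (h : idealOfRep hi.1 ≤ idealOfRep hf) : ∃ g : F ⟶ Z, g ≫ i = f := by
  obtain ⟨V, φ, hφe, hφs⟩ := hX.atlas
  refine exists_factor hF hi hφe hφs (le_kerAt_iff.2 fun A a c w => ?_)
  refine Scheme.IdealSheafData.le_ofIdeals_iff.2 fun U x hx => ?_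
  rw [RingHom.mem_ker]
  have hU : IsAffine (chartOpen φ hφe U.1).obj.left.left := U.2
  rw [subIdeal_ideal hi φ hφe U, chartIdeal, Ideal.mem_map_iff_of_surjective _
    (ConcreteCategory.bijective_of_isIso U.1.topIso.hom).2] at hx
  obtain ⟨z, hz, rfl⟩ := hx
  have hz' := h (chartOpen φ hφe U.1) hU hz
  rw [mem_idealOfRep_iff] at hz'
  let o : Over.mk (U.1.ι ≫ V.hom) ⟶ V := Over.homMk U.1.ι rfl
  let A' : Over S := Over.mk ((c.left ⁻¹ᵁ U.1).ι ≫ A.hom)
  let oA : A' ⟶ A := Over.homMk (c.left ⁻¹ᵁ U.1).ι rfl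
  let c' : A' ⟶ Over.mk (U.1.ι ≫ V.hom) := Over.homMk (c.left.resLE U.1 (c.left ⁻¹ᵁ U.1) le_rfl) (by
    change _ ≫ U.1.ι ≫ V.hom = (c.left ⁻¹ᵁ U.1).ι ≫ A.hom
    rw [Scheme.Hom.resLE_comp_ι_assoc, Over.w c])
  have w' : ((yon S).map oA ≫ a) ≫ f = (yon S).map c' ≫ (chartOpen φ hφe U.1).obj.hom := by
    change _ = (yon S).map c' ≫ (yon S).map o ≫ φ
    rw [Category.assoc, w, ← Functor.map_comp_assoc, ← Functor.map_comp_assoc]
    congr 2
    exact Over.OverMorphism.ext (Scheme.Hom.resLE_comp_ι _ _).symm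
  let l := hf.lift ((yon S).map oA ≫ a) c' w'
  have hl : l ≫ EtOver.bcπ hf (chartOpen φ hφe U.1) = c' := hf.lift_snd _ _ _
  have h1 : c'.left.appTop z = 0 := by
    rw [← hl, Over.comp_left, Scheme.Hom.comp_appTop, ConcreteCategory.comp_apply]
    exact (congrArg _ hz').trans (map_zero _)
  have h2 := congrArg (fun q : Γ(U.1.toScheme, ⊤) ⟶ Γ(A.left, c.left ⁻¹ᵁ U.1) => q z) (topIso_appLE c.left (le_refl (c.left ⁻¹ᵁ U.1)))
  simp only [ConcreteCategory.comp_apply] at h2
  rw [Scheme.Hom.app_eq_appLE]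
  exact h2.symm.trans ((congrArg _ h1).trans (map_zero _))

/-- A factorisation reverses the inclusion of the kernel families. -/
theorem le_idealOfRep_of_factor {F : Sp S} {f : F ⟶ X} (hf : Representable f)
    (hi : RepWith @IsClosedImmersion i) (h : ∃ g : F ⟶ Z, g ≫ i = f) :
    idealOfRep hi.1 ≤ idealOfRep hf := by
  intro E hE x hx
  rw [idealOfRep_eq_subIdeal hi E hE] at hx
  exact Scheme.Hom.ideal_ker_le (hf.snd E.obj.hom).left ⟨⊤, isAffineOpen_top _⟩
    ((subIdeal_le_kerAt hi h).trans (kerAt_le (hf.fst E.obj.hom) (hf.snd E.obj.hom)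
      (hf.isPullback E.obj.hom).w) _ hx)

end Groth.Agent.SchImage14
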