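import Mathlib.LinearAlgebra.Charpoly.Basic
import Mathlib.RingTheory.Finiteness.Ideal
import Mathlib.RingTheory.Localization.Away.Basic
import Mathlib.Algebra.Module.LocalizedModule.Basic

/-!
# A uniform bound for locally nilpotent endomorphisms

If `c` is killed by a power of an endomorphism `φ` locally on a schematically dense family of
basic opens and by a monic polynomial in `φ`, then it is killed by a power of `φ`.
-/

universe u v

open Polynomial

namespace Groth.Agent.SchImage14

variable {A : Type u} [CommRing A] {M : Type v} [AddCommGroup M] [Module A M]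

/-- If `a j` is a unit, high iterates lie in high powers of the lower coefficients. -/
theorem pow_apply_eq_zero_of_isUnit (φ : Module.End A M) (c : M) (a : ℕ → A) {d j N r n : ℕ}
    (hjd : j ≤ d) (hc : ∑ i ∈ Finset.range (d + 1), a i • (φ ^ i) c = 0) (hu : IsUnit (a j))
    (hn : (φ ^ n) c = 0) (hr : ∀ z ∈ Ideal.span (a '' Set.Iio j) ^ r, z • (φ ^ N) c = 0) :
    (φ ^ (r * j + N)) c = 0 := by
  let I := Ideal.span (a '' Set.Iio j)
  let Y : ℕ → Submodule A M := fun t => Submodule.span A ((fun l => (φ ^ l) c) '' Set.Ici t)
  have key : ∀ t, Y (t + j) ≤ I • Y t := by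
    intro t
    refine Submodule.span_le.2 ?_
    rintro _ ⟨l, hl, rfl⟩
    change (φ ^ l) c ∈ I • Y t
    change t + j ≤ l at hl
    induction e : n - l using Nat.strong_induction_on generalizing l with
    | _ e ih =>
      rcases le_or_gt n l with h | h
      · rw [← Nat.sub_add_cancel h, pow_add, Module.End.mul_apply, hn, map_zero]
        exact zero_mem _
      · have h1 : ∑ i ∈ Finset.range (d + 1), a i • (φ ^ (l - j + i)) c = 0 := by
          have := congrArg (φ ^ (l - j)) hc
          rw [map_zero, map_sum] at this
          simpa only [map_smul, ← Module.End.mul_apply, ← pow_add] using this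
        rw [← Finset.add_sum_erase _ _ (Finset.mem_range.2 (show j < d + 1 by omega)),
          Nat.sub_add_cancel (show j ≤ l by omega), add_eq_zero_iff_eq_neg] at h1
        refine (Submodule.smul_mem_iff_of_isUnit _ hu).1 ?_
        rw [h1]
        refine neg_mem (sum_mem fun i hi => ?_)
        rw [Finset.mem_erase] at hi
        rcases lt_or_gt_of_ne hi.1 with h' | h'
        · exact Submodule.smul_mem_smul (Ideal.subset_span ⟨i, h', rfl⟩)
            (Submodule.subset_span ⟨_, show t ≤ l - j + i by omega, rfl⟩)
        · exact Submodule.smul_mem _ _ (ih _ (by omega) (l - j + i) (by omega) rfl)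
  have it : ∀ m, Y (m * j + N) ≤ I ^ m • Y N := by
    intro m
    induction m with
    | zero => simp
    | succ m ih =>
      rw [show (m + 1) * j + N = m * j + N + j by ring]
      exact (key _).trans ((Submodule.smul_mono le_rfl ih).trans
        (by rw [← Submodule.mul_smul, ← pow_succ']))
  have h0 : I ^ r • Y N ≤ ⊥ := by
    refine Submodule.smul_le.2 fun z hz y hy => ?_
    rw [Submodule.mem_bot]
    induction hy using Submodule.span_induction with
    | mem x hx =>
      obtain ⟨l, hl, rfl⟩ := hx
      change z • (φ ^ l) c = 0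
      rw [← Nat.sub_add_cancel (show N ≤ l from hl), pow_add, Module.End.mul_apply, ← map_smul,
        hr z hz, map_zero]
    | zero => simp
    | add x y _ _ hx hy => rw [smul_add, hx, hy, add_zero]
    | smul b x _ hx => rw [smul_comm, hx, smul_zero]
  exact (Submodule.mem_bot A).1
    (h0 (it r (Submodule.subset_span ⟨r * j + N, Set.self_mem_Ici, rfl⟩)))

/-- The annihilator of an element, as an ideal. -/
def annOf (x : M) : Ideal A := LinearMap.ker (LinearMap.toSpanSingleton A M x)

lemma mem_annOf {x : M} {a : A} : a ∈ annOf x ↔ a • x = 0 := LinearMap.mem_ker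

/-- A uniform bound for the order of nilpotency. -/
theorem exists_pow_apply_eq_zero {ι : Type*} (f : ι → A)
    (H : ∀ (a : A) (x : M), (∀ k, ∃ n : ℕ, (a * f k) ^ n • x = 0) → ∃ n : ℕ, a ^ n • x = 0)
    (φ : Module.End A M) (c : M) {P : A[X]} (hP : P.Monic) (hc : aeval φ P c = 0)
    (hloc : ∀ k, ∃ m n : ℕ, f k ^ m • (φ ^ n) c = 0) : ∃ N : ℕ, (φ ^ N) c = 0 := by
  classical
  have hc' : ∑ i ∈ Finset.range (P.natDegree + 1), P.coeff i • (φ ^ i) c = 0 := by
    rw [aeval_eq_sum_range, LinearMap.sum_apply] at hc
    exact hc
  suffices ∀ j, j ≤ P.natDegree + 1 → ∃ N : ℕ, ∀ i < j, P.coeff i ∈ (annOf ((φ ^ N) c)).radical by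
    obtain ⟨N, hN⟩ := this _ le_rfl
    obtain ⟨k, hk⟩ := hN P.natDegree (Nat.lt_succ_self _)
    rw [hP.coeff_natDegree, one_pow, mem_annOf, one_smul] at hk
    exact ⟨N, hk⟩
  intro j
  induction j with
  | zero => exact fun _ => ⟨0, fun i hi => (Nat.not_lt_zero i hi).elim⟩
  | succ j ih =>
    intro hj
    obtain ⟨N, hN⟩ := ih (by omega)
    obtain ⟨r, hr⟩ := Ideal.exists_pow_le_of_le_radical_of_fg
      (I := Ideal.span (P.coeff '' Set.Iio j)) (J := annOf ((φ ^ N) c))
      (Ideal.span_le.2 (by rintro _ ⟨i, hi, rfl⟩; exact hN i hi))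
      (Submodule.fg_span ((Set.finite_Iio j).image _))
    have hx : ∀ k, ∃ m : ℕ, (P.coeff j * f k) ^ m • (φ ^ (r * j + N)) c = 0 := by
      intro k
      let S := Submonoid.powers (P.coeff j * f k)
      let A' := Localization S
      let M' := LocalizedModule S M
      let q : M →ₗ[A] M' := LocalizedModule.mkLinearMap S M
      let φ' : Module.End A' M' := LocalizedModule.map S φ
      have hq : ∀ (l : ℕ) (y : M), (φ' ^ l) (q y) = q ((φ ^ l) y) := by
        intro l
        induction l with
        | zero => intro y; simp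
        | succ l ih =>
          intro y
          rw [pow_succ', Module.End.mul_apply, ih, pow_succ', Module.End.mul_apply]
          exact LocalizedModule.map_mk S φ _ _
      have hb : IsUnit (algebraMap A A' (P.coeff j * f k)) :=
        IsLocalization.map_units A' (⟨_, Submonoid.mem_powers _⟩ : S)
      rw [map_mul, IsUnit.mul_iff] at hb
      obtain ⟨m, n, hmn⟩ := hloc k
      have hn : (φ' ^ n) (q c) = 0 := by
        have := congrArg q hmn
        rw [map_smul, map_zero, ← algebraMap_smul A' (f k ^ m), map_pow] at this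
        rw [hq]
        exact (hb.2.pow m).smul_eq_zero.1 this
      have h0 := pow_apply_eq_zero_of_isUnit φ' (q c) (fun i => algebraMap A A' (P.coeff i))
        (d := P.natDegree) (j := j) (N := N) (r := r) (by omega)
        (by simpa only [hq, algebraMap_smul, map_smul, map_sum, map_zero] using congrArg q hc') hb.1 hn (by
          intro z hz
          have he : Ideal.span ((fun i => algebraMap A A' (P.coeff i)) '' Set.Iio j) =
              (Ideal.span (P.coeff '' Set.Iio j)).map (algebraMap A A') := by
            rw [Ideal.map_span, Set.image_image]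
          rw [he, ← Ideal.map_pow] at hz
          rw [hq, ← mem_annOf]
          refine Ideal.map_le_iff_le_comap.2 (fun w hw => ?_) hz
          rw [Ideal.mem_comap, mem_annOf, algebraMap_smul, ← map_smul, mem_annOf.1 (hr hw), map_zero])
      rw [hq] at h0
      obtain ⟨⟨_, n', rfl⟩, hn'⟩ :=
        (IsLocalizedModule.eq_zero_iff S (LocalizedModule.mkLinearMap S M)).1 h0
      exact ⟨n', hn'⟩
    obtain ⟨n, hn⟩ := H _ _ hx
    refine ⟨r * j + N, fun i hi => ?_⟩
    rcases Nat.lt_succ_iff_lt_or_eq.1 hi with h | rfl
    · refine Ideal.radical_mono (fun w hw => ?_) (hN i h)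
      rw [mem_annOf] at hw ⊢
      rw [pow_add, Module.End.mul_apply, ← map_smul, hw, map_zero]
    · exact ⟨n, mem_annOf.2 hn⟩

end Groth.Agent.SchImage14
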