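import Groth.Agent.Lib.SchImage14.Apps
import Groth.Agent.Lib.AlgSpace.ValRefined
import Groth.Agent.Lib.AlgSpDescent.RepBase

/-!
# Valuation rings centred in scheme theoretic images
-/

universe u

set_option backward.isDefEq.respectTransparency.types false

open CategoryTheory CategoryTheory.Limits AlgebraicGeometry AlgSp Opposite
open Groth.Agent.AlgSpace Groth.Agent.AlgSpDecent

namespace Groth.Agent.SchImage14

variable {S : Scheme.{u}}

/-- Monomorphisms are quasi-separated. -/
theorem isQuasiSeparatedMor_of_mono {F G : Sp S} (i : F ⟶ G) [Mono i] : IsQuasiSeparatedMor i := by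
  change RepWith @QuasiCompact (pullback.diagonal i)
  exact repWith_mono (Q := @QuasiCompact) (fun _ _ g (hg : IsIso g) => inferInstance)
    (AlgSpDescent.repWith_isomorphisms_of_isIso (pullback.diagonal i))

/-- The factor of a quasi-compact morphism through its image is quasi-compact. -/
theorem isQuasiCompactMor_factor {F G Z : Sp S} (hF : IsAlgSpace F) (hG : IsAlgSpace G)
    (hZ : IsAlgSpace Z) {i : Z ⟶ G} (hi : RepWith @IsClosedImmersion i) (h' : F ⟶ Z)
    (hq : IsQuasiCompactMor (h' ≫ i)) : IsQuasiCompactMor h' := by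
  have := AlgSpDescent.mono_of_repWith_closedImmersion hi
  exact isQuasiCompactMor_of_comp hF hZ hG hq (isQuasiSeparatedMor_of_mono i)

/-- The factor of a quasi-compact morphism through its image is dominant. -/
theorem denseRange_factor {F G Z : Sp S} (hF : IsAlgSpace F) (hG : IsAlgSpace G) {f : F ⟶ G}
    (hq : IsQuasiCompactMor f) {i : Z ⟶ G} (hZ : IsSchImage f i) (h' : F ⟶ Z) (fac : h' ≫ i = f) :
    DenseRange (Points.map h') := by
  obtain ⟨κ, W, φ, hW, hφe, hφs⟩ := exists_affines_atlas hG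
  have := AlgSpDescent.mono_of_repWith_closedImmersion hZ.1
  have sq := hZ.1.1.isPullback φ
  have := isClosedImmersion_snd hZ.1 φ
  intro z
  obtain ⟨p, rfl⟩ := surjective_ofPt (repWith_of_isPullback sq.flip hφs) z
  obtain ⟨A, a, c, w, hc, hk⟩ := exists_qc_kerAt_eq hF hG hq hW φ
  obtain ⟨l, hl⟩ := (yon S).map_surjective (sq.lift (a ≫ h') ((yon S).map c)
    (by rw [Category.assoc, fac, w]))
  have hl₂ : l ≫ hZ.1.1.snd φ = c := (yon S).map_injective (by
    rw [Functor.map_comp, hl, IsPullback.lift_snd])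
  have hl₁ : (yon S).map l ≫ hZ.1.1.fst φ = a ≫ h' := by rw [hl, IsPullback.lift_fst]
  have hp : p ∈ closure (Set.range l.left) := by
    rw [(hZ.1.1.snd φ).left.isEmbedding.closure_eq_preimage_closure_image, Set.mem_preimage,
      ← Set.range_comp, ← TopCat.coe_comp, ← Scheme.Hom.comp_base, ← Over.comp_left, hl₂,
      ← Scheme.Hom.support_ker, ← hk, ← subIdeal_eq_kerAt_atlas hF hG hq hW hZ hφe hφs, subIdeal]
    exact (hZ.1.1.snd φ).left.range_subset_ker_support ⟨p, rfl⟩
  refine map_mem_closure (Points.continuous_ofPt _) hp ?_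
  rintro _ ⟨t, rfl⟩
  exact ⟨Points.ofPt a t, by rw [Points.map_ofPt, ← hl₁, ofPt_map_comp]⟩

/-- Points of the image of a quasi-compact morphism are reached by valuation rings from the source. -/
theorem exists_valuationRing {F G Z : Sp S} (hF : IsAlgSpace F) (hG : IsAlgSpace G)
    (hZs : IsAlgSpace Z) {f : F ⟶ G} (hq : IsQuasiCompactMor f) {i : Z ⟶ G} (hZ : IsSchImage f i)
    (z : Points Z) :
    ∃ (A : Type u) (_ : CommRing A) (_ : IsDomain A) (_ : ValuationRing A)
      (str : Spec (CommRingCat.of A) ⟶ S) (a : (yon S).obj (Over.mk str) ⟶ Z)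
      (x : (yon S).obj (Over.mk (Spec.map (CommRingCat.ofHom (algebraMap A (FractionRing A))) ≫ str)) ⟶ F),
      Points.ofPt a (IsLocalRing.closedPoint A) = z ∧
      x ≫ f = (yon S).map (Over.homMk (Spec.map (CommRingCat.ofHom (algebraMap A (FractionRing A)))) rfl) ≫
        a ≫ i := by
  obtain ⟨h', fac⟩ := hZ.2.1
  obtain ⟨V, p, hpe, hps⟩ := hZs.atlas
  obtain ⟨v, rfl⟩ := surjective_ofPt hps z
  obtain ⟨U, hU, hvU, -⟩ := exists_isAffineOpen_mem_and_subset (X := V.left) (x := v) (U := ⊤) trivial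
  let o : Over.mk (U.ι ≫ V.hom) ⟶ V := Over.homMk U.ι rfl
  have : IsAffine (Over.mk (U.ι ≫ V.hom)).left := hU
  have hoe : RepWith @Etale ((yon S).map o ≫ p) :=
    repWith_comp ((repWith_yon_map_iff _ _).2 (inferInstanceAs (Etale U.ι))) hpe
  obtain ⟨K, hK, A, e, he, t, ht⟩ := exists_valuationRing_of_dense hF hZs
    (isQuasiCompactMor_factor hF hG hZs hZ.1 h' (fac ▸ hq)) (denseRange_factor hF hG hq hZ h' fac)
    hoe ⟨v, hvU⟩
  let str : Spec (CommRingCat.of A) ⟶ S := e ≫ U.ι ≫ V.hom
  let ε : K →+* FractionRing A := (FractionRing.algEquiv A K).symm.toRingEquiv.toRingHom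
  have hε : ε.comp A.subtype = algebraMap A (FractionRing A) :=
    RingHom.ext fun y => (FractionRing.algEquiv A K).symm.commutes y
  have hεs : Spec.map (CommRingCat.ofHom ε) ≫ Spec.map (CommRingCat.ofHom A.subtype) =
      Spec.map (CommRingCat.ofHom (algebraMap A (FractionRing A))) := by
    rw [← Spec.map_comp, ← CommRingCat.ofHom_comp, hε]
  let r : Over.mk (Spec.map (CommRingCat.ofHom (algebraMap A (FractionRing A))) ≫ str) ⟶
      Over.mk (Spec.map (CommRingCat.ofHom A.subtype) ≫ e ≫ U.ι ≫ V.hom) :=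
    Over.homMk (Spec.map (CommRingCat.ofHom ε)) (by
      change Spec.map _ ≫ Spec.map _ ≫ _ = _
      rw [reassoc_of% hεs]; rfl)
  let ae : Over.mk str ⟶ Over.mk (U.ι ≫ V.hom) := Over.homMk e rfl
  refine ⟨A, inferInstance, inferInstance, inferInstance, str, (yon S).map ae ≫ (yon S).map o ≫ p,
    (yon S).map r ≫ t, ?_, ?_⟩
  · rw [ofPt_map_comp, ofPt_map_comp]
    have h1 : ae.left = e := rfl
    have h2 : o.left = U.ι := rfl
    rw [h1, h2, he]
    rfl
  · have hm : r ≫ Over.homMk (Spec.map (CommRingCat.ofHom A.subtype) ≫ e) (Category.assoc _ _ _) =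
        (Over.homMk (Spec.map (CommRingCat.ofHom (algebraMap A (FractionRing A)))) rfl :
          Over.mk (Spec.map (CommRingCat.ofHom (algebraMap A (FractionRing A))) ≫ str) ⟶ Over.mk str) ≫ ae :=
      Over.OverMorphism.ext (by
        change Spec.map _ ≫ Spec.map _ ≫ e = Spec.map _ ≫ e
        rw [reassoc_of% hεs])
    rw [← fac, Category.assoc, reassoc_of% ht, ← Functor.map_comp_assoc, hm]
    simp only [Functor.map_comp, Category.assoc]

end Groth.Agent.SchImage14
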